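import Cfsg.Agent.H570.Ore.Blk_m3
import Cfsg.Agent.H246.Dl.KFix_m3
import Cfsg.Agent.H362.Dl.SpSmall
import Mathlib.LinearAlgebra.Projectivization.Cardinality
import Cfsg.Agent.H664.Eight.Base
import Cfsg.Agent.S0245
import Cfsg.Agent.S0246
import Cfsg.Agent.S2545
import Cfsg.Agent.H677.DG.SpRank
import Cfsg.Agent.H677.WeilIrr
import Cfsg.Agent.H167.HasSt
import Cfsg.Agent.Nodes.WittInst
import Cfsg.Agent.S0270
import Cfsg.Agent.H689.Sp6Two
import Cfsg.Agent.H996.Eight.Interval
import Cfsg.Agent.H113.PSU.Rank3_m3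
import Cfsg.Agent.H603.SporElim
import Cfsg.Agent.S0157
import Cfsg.Agent.S1624
import Cfsg.Agent.S1680
import Cfsg.Agent.S1687
import Cfsg.Agent.S1690
import Cfsg.Agent.S1691
import Cfsg.Agent.H713.Spor.McL
import Cfsg.Agent.FastGrp
import Cfsg.Agent.Prune
set_option linter.all false

section
prune_inst 0x7ffdecfcfba865dfffff7e3fa6d9cff811808fffe6dff943ffe0e9bf8fdf13020dc5fb850de010fe0ed7e21410b87843fb7eeeffe16fdc7ffffd5ff41ffbee0fe5f7b50811d78c340f3c2fff83f0778e7f3fffffffffffffffffffffffffffbeffbfffffffff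

-- part: H471/Eight/CertFi22
section
prune_inst 0x2130304579a20000081c059263007ee7f7000192002b8001f16407020ecfdf23a047af20fef01f1281ceb6f4787bc048111001e9021000002a00be00411f01a084af7ee2873cbd0c350007c0f887180c00000000000000000000000000041004000000000
set_option linter.all false

/-- decoders of the packed data (elaboration time only) -/
private noncomputable def pk61d (b S i : Nat) : Nat := Nat.mod (Nat.shiftRight S (Nat.mul b i)) (Nat.shiftLeft (nat_lit 1) b)
private noncomputable def pk61c {α : Type} (t : Nat) (a : α) (f : Nat → α) : α := Nat.rec a (fun k _ => f k) t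
private noncomputable def pk61f {α : Type} (t : Nat) (f : Nat → α) : α := Nat.rec (f Nat.zero) (fun k _ => f (Nat.succ k)) t
private noncomputable def pk61l {α : Type} (f : Nat → α) (s e : Nat) (tl : List α) : List α :=
  pk61f e fun e => Nat.rec tl (fun k ih => List.cons (pk61f (Nat.sub e (Nat.succ k)) f) ih) (Nat.sub e s)
private noncomputable def pk61o {α : Type} (O : (n : Nat) → OfNat α n → α) (I : (n : Nat) → OfNat α n) (t : Nat) : α :=
  pk61c t (O (nat_lit 0) (I (nat_lit 0))) fun k => O (Nat.succ k) (I (Nat.succ k))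
private noncomputable def pk61y (O : (n : Nat) → OfNat Int n → Int) (I : (n : Nat) → OfNat Int n) (G : Int → Int) (t : Nat) : Int := pk61f t fun t =>
  pk61c (Nat.mod t (nat_lit 2)) (pk61o O I (Nat.div t (nat_lit 2))) fun _ => G (pk61o O I (Nat.succ (Nat.div t (nat_lit 2))))


/-!
# Fi22 has at least eight character degrees: certificates (helper471, for S4899)
-/

set_option autoImplicit false
set_option maxRecDepth 100000
set_option maxHeartbeats 4000000
set_option linter.unusedSectionVars false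

namespace Cfsg.Agent.H471.Eight.CertFi22

open Cfsg Cfsg.Agent.Characters.Core Cfsg.Agent.H653.Sys Cfsg.Agent.H653.Sieve Cfsg.Agent.H471.Eight
open Cfsg.Agent.H664.Eight

universe u

def L : List (ℕ × ℕ) := [(13, 1), (11, 1), (7, 1), (5, 2), (3, 9), (2, 17)]

def Ds : List PD := [⟨13, 1, 6, 2, [(0, 0), (1, 2), (6, -1), (7, 1), (12, -2)], 26, 2, true⟩,
  ⟨11, 2, 5, 2, [(0, 0), (1, 2), (5, -1), (6, 1), (10, -2)], 44, 0, false⟩]

def Cs : List Cond := [condEq 429, condEq 3080, condEq 13650, condEq 45045]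

/-- the table of the degrees and column values -/
noncomputable def B : List (List (ℕ × List ℤ)) :=
  let y0 : List (List (ℕ × List ℤ)) := (by
  refine (?fq9001 : (fun (On : (n : Nat) → OfNat Nat n → Nat) (In : (n : Nat) → OfNat Nat n) (Oz : (n : Nat) → OfNat Int n → Int) (Iz : (n : Nat) → OfNat Int n) (Gz : Int → Int) => (pk61l (fun i0 => ((fun g0 : Nat → Nat => pk61l (fun i1 => (_root_.Prod.mk (pk61o On In (pk61d (nat_lit 23) 
    (nat_lit 0x34c980120c001c476008880005b200061c1003996004a4000276241800388ec02c8a04061c1002520d37040a9ac40820000b3f4c0840000b6b98092a180db60002cb0e23b00b22810eff10135600061c10005dd8001808d64e0bae0a141c0014d2d01554001b800026115021ef402db40023fdc0008f54d62042cf068200006660007822b04950c06db0005661004b000059618be741084c50d41750f15001450000a50000448ee23b00b22810eff101356001600001e744018704024900002eede60000ae060036fc906900007d20002184000360a0e000deb2154d2d01554001b80002611502b500043de8034000047fb800af800023c527ad89d8000bbb0003246002797200a20000333000118859e0c6660004458004950c02b308037b0002cb0003b100046620018100005b4e4f803ed780780000a61d011e00018be7425050010eb400f150007ff80013821098a1a82ea1e2a0028a0003e78703ffc0052800040f800448e000df7f1500019737021a3501167000df7000a800003c280035a)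 i1)) (pk61l (fun i2 => (pk61y Oz Iz Gz (pk61d (nat_lit 3) 
    (nat_lit 0x10182c08024c300000410042010400800000804001a00c01040104080800002022301840b00004001004800060308201001a0808800110008200c308021840002100001260a0183008010140014020138c00180808080c00202080c260000090400c100) i2))) (Nat.mul (nat_lit 2) i1) (Nat.mul (nat_lit 2) (Nat.succ i1)) List.nil))) (g0 i0) (g0 (Nat.succ i0)) List.nil) fun j => (pk61d (nat_lit 8) 
    (nat_lit 0x867d786f685d534c433c30281d120800) j))) (nat_lit 0) (nat_lit 15) List.nil : List (List (ℕ × List ℤ))))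
    = ?xq9001 → (List (List (ℕ × List ℤ)))) ?hq9001; (case hq9001 => (set_option maxRecDepth 1000000 in conv => lhs; reduce)); intro _; exact ?xq9001 (@OfNat.ofNat Nat) instOfNatNat (@OfNat.ofNat Int) (@instOfNat) (@Neg.neg Int Int.instNegInt) : List (List (ℕ × List ℤ)))
  let y1 : List (List (ℕ × List ℤ)) := (by
  refine (?fq9002 : (fun (On : (n : Nat) → OfNat Nat n → Nat) (In : (n : Nat) → OfNat Nat n) (Oz : (n : Nat) → OfNat Int n → Int) (Iz : (n : Nat) → OfNat Int n) (Gz : Int → Int) (tl : List (List (ℕ × List ℤ))) => (pk61l (fun i0 => ((fun g0 : Nat → Nat => pk61l (fun i1 => (_root_.Prod.mk (pk61o On In (pk61d (nat_lit 23) 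
    (nat_lit 0xb22810888000b00001405c81e74401870402490001ccb001900000f6cc0177657fa8083a0007577405e43406b40006f0f0071c000658380738000b4fc00075321b44c37bc8570300630000890b206df9207d200021840003600000b03943bc3aa7000fb5e011e000032a0004d000078a8000af00009dbd642871e800ad40010f7a00d000003138003aa70057c00011e000026b2c1c04f88be738000b4fc0009c6800ea0000d0d693d6c2eec000c918009e5c802880000840000461c8cfc207c0032e6e027000035fca01bee0015fea020e80006b400038e0001ce12543006f600059600046620018100005b2797200a9ac414400007404002300000596000090fb5e01ed5b423c000317ce85e800021d6802680003c540002701ccb000a4f5b0f6cc0177600184b481f53001923000d54801130000d89000820d41750f15000f9e1c0fff000aadc0103e0019737013800006fb80093a80083a47fb80300de01d53802be0002727c01f6bc023c000250500051432e6e0448e000df7001b68a001ad2fb87230e080329cd62520000bbb0003246000085110000bee1c96c8001870401050901ccb0019000013b0001776000020dc8c808cc40091c3b0bbf20096d20076c5609ff600ce4000a26c0061805e4340b90238d6800025f80039c0005a7e00083400075096d20076c5605b00003cc00015c0c02664000d20000fa4c60001121640dbf241491001f480008610006993008e300005820fdf03f0000168f00235938283800071e8003400002e68000afb943bc4d1fc0754e001f6bc023c00003c54004fbc00294785000bc8680d6800128ed702d3f003cf0001ef000185d00138d21ef402cd9c01734000754e00e0000023c287d7814f28015b0ee20fdf005070001b809f117ce7000169f800138d00053ca00087270b463b62b04ffb001fd04c06300001f48)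 i1)) (pk61l (fun i2 => (pk61y Oz Iz Gz (pk61d (nat_lit 3) 
    (nat_lit 0x101191008084580006040008201010100101010400008c20000008440198008440186408000c30020006040000009017040402180004002020030000e000064184048004000c1010184008002020180c24000186091004004488140080400108004000c00002030001200120026232806200080400181014000c088301a8000204416090030c020000040401208001c80160020000001a08400000020308001a080480200600002004000022400400100) i2))) (Nat.mul (nat_lit 2) i1) (Nat.mul (nat_lit 2) (Nat.succ i1)) List.nil))) (g0 i0) (g0 (Nat.succ i0)) List.nil) fun j => (pk61d (nat_lit 8) 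
    (nat_lit 0xece1d6ccc3b9b2aba09a938a7f746b665f554b433b32292118120c0600) j))) (nat_lit 0) (nat_lit 28) tl : List (List (ℕ × List ℤ))))
    = ?xq9002 → (List (List (ℕ × List ℤ)))) ?hq9002; (case hq9002 => (set_option maxRecDepth 1000000 in conv => lhs; reduce)); intro _; exact ?xq9002 (@OfNat.ofNat Nat) instOfNatNat (@OfNat.ofNat Int) (@instOfNat) (@Neg.neg Int Int.instNegInt) y0 : List (List (ℕ × List ℤ)))
  let y2 : List (List (ℕ × List ℤ)) := (by
  refine (?fq9003 : (fun (On : (n : Nat) → OfNat Nat n → Nat) (In : (n : Nat) → OfNat Nat n) (Oz : (n : Nat) → OfNat Int n → Int) (Iz : (n : Nat) → OfNat Int n) (Gz : Int → Int) (tl : List (List (ℕ × List ℤ))) => (pk61l (fun i0 => ((fun g0 : Nat → Nat => pk61l (fun i1 => (_root_.Prod.mk (pk61o On In (pk61d (nat_lit 23) 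
    (nat_lit 0x5dd8001923001a0784279720355200021017fe801004a0185d00262d28271a003a800050faf029e500375f00315c000a0ecb9b809c000037dc0049d40057fa8083a0001ad0000e3800097e000e733420036fc903e9000496a88819180a71000861000b13000d326004830001111d0100092a180165800119880048000019cdcca33b13000d32600daa588711d8022200009240003206aa40069b82054d6202cfd303a02004200005b5cc0059600009046b270507000087bd00b6d000011f1e000208965317ce809a0000f150000016d136007f413026640007d20005388004309ccb00190000149eb6177600184b481f53001923000362400208000199f54e00af8000f2f0d07daf00a61d011e00018be74250500078a800a280007ff80040fea0ba878a800155b8019737021a35027000022ce001bee0024ea0020e80006b77dc0055e59a57fa8083a0007577405e43407c95c0d68000de1e00e380005a7e0079e0728778754e00af80009c9f007daf008f0000941400268000013ef0f0071c0006583805a7e002ffd00200940138d001d405280007233f065cdc0891c006bf94037dc002bfd4006b4648c004f2e401b12002a6b100ccc0000dec000b2f0e0804920006539ac0f6cc01776000648c0035520044c3ba68ec3de805b680047fb80248b80268fe03aa70008f00000a2afb8725b200061c1004142404a40002760002eec000c91800144000043658001eee112e464046620012da4009ff600ce4000004123876177e4012da400ed8ac0b60000d5930144d800c300009990001f4d3ca006ebe0083f7c0c5700046b270507000534b4055500038f40056a0003401e14002f21a035a0004a3b5c0b4fc00ef34007bc19b540271a000a7940148e78107ef80283860400096d20076c5601e60000ae0600c600006900007d200001b)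 i1)) (pk61l (fun i2 => (pk61y Oz Iz Gz (pk61d (nat_lit 3) 
    (nat_lit 0x100100d828300042001220001801a0200182442c00038020130024020000190402808002183080804030820240000100002000c08440200030206800181001202004200110002006100c001b0128020236000000080802c04100200006030008024186010204c02020808080000000030201000086100002010006100e000040090010170000b0800100002026580c001068380800064080001860a0d00800000190500001000010008c309b00c) i2))) (Nat.mul (nat_lit 2) i1) (Nat.mul (nat_lit 2) (Nat.succ i1)) List.nil))) (g0 i0) (g0 (Nat.succ i0)) List.nil) fun j => (pk61d (nat_lit 8) 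
    (nat_lit 0xe9e3d8cec3bdb5aca7a19b91857a6e655d554e463d332b21160f0900) j))) (nat_lit 0) (nat_lit 27) tl : List (List (ℕ × List ℤ))))
    = ?xq9003 → (List (List (ℕ × List ℤ)))) ?hq9003; (case hq9003 => (set_option maxRecDepth 1000000 in conv => lhs; reduce)); intro _; exact ?xq9003 (@OfNat.ofNat Nat) instOfNatNat (@OfNat.ofNat Int) (@instOfNat) (@Neg.neg Int Int.instNegInt) y1 : List (List (ℕ × List ℤ)))
  (by
  refine (?fq9004 : (fun (On : (n : Nat) → OfNat Nat n → Nat) (In : (n : Nat) → OfNat Nat n) (Oz : (n : Nat) → OfNat Int n → Int) (Iz : (n : Nat) → OfNat Int n) (Gz : Int → Int) (tl : List (List (ℕ × List ℤ))) => (pk61l (fun i0 => ((fun g0 : Nat → Nat => pk61l (fun i1 => (_root_.Prod.mk (pk61o On In (pk61d (nat_lit 23) 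
    (nat_lit 0x1e780017fe801ef0002ad37a30ba004c5a5066d5009c680029e50002838000dc36fc905244007d200092d511032300e100010c2000d326011c61c200021840022b4b034c980471800467ac0388ec01dfe201600000924168f00235938283800043de8017340007019c8002d8000289b003fa09830c0002664000a48800fa4000a710008617287789a3f80ea9c00f2f0d07daf008f00000f15001450000a506fb800db4501579669cebe82bfd400bc8680d680000f3cd6800128ed71bc3c01c70000b4fc00f3c000bff4006174004e34c9180109c8013cb901130000d89001535881040000ccc00036d8001bda1ef402db4001734001245c01347f01d538038000008f06f60009a2c84b2c000f7708919880060400096d200018c29e50020fdf0315c002c0cb8141c000aaa000dc0000ad4000b6d98b4a09c6800686a0053ca00a473c083f7c0fc00005a3c005070000342d3f003cf0001ef00013169419b540271a000a7940001b90c200115a581a64c0238c00233d601c476009ab000b0000000676c5609ff600ce40007f41306180000a48800fa4000430c59c0037dc006da28073afa0aff501500000785000bc8680d6800003dfb87f33096902a3000324600340f084f2e406aa400898000208000036de1e3606f60009a2c84b2c000ec400119880060400096d2002d80001e6000063000034c012804c5a504e3400750000686a0053ca00a00000dd7c00c570005a3c005070002aa8000682184001a64c00711d80d800004d58000019167000df7000aff5015000007850006b400012fcc3c6c15984012c0001658001d8800233100096d2002d80000c336fc903e900029c4002184001a64c009060002221254301b6c0015984012c000165800172320233100177e4012da4000c35b5cc08f295692a180db60002cb0002e46404662002efc800672)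 i1)) (pk61l (fun i2 => (pk61y Oz Iz Gz (pk61d (nat_lit 3) 
    (nat_lit 0x2020410101800000301800140c0008110180180c08032040000032c32020184200010006004000002040040200000100002080184040005001010184200802040500240041000001000c00101002040580000c00802c30180100802000010080080401018c08010084000030024008c300010240b02002008840308201b00201830151c00080101491804080800001a0910400110406c1624009000218000100004800808480600100201000400200083) i2))) (Nat.mul (nat_lit 2) i1) (Nat.mul (nat_lit 2) (Nat.succ i1)) List.nil))) (g0 i0) (g0 (Nat.succ i0)) List.nil) fun j => (pk61d (nat_lit 8) 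
    (nat_lit 0xebe0d7cdc7bdb4aca399918980766e655d53493d302a231a13090000) j))) (nat_lit 0) (nat_lit 27) tl : List (List (ℕ × List ℤ))))
    = ?xq9004 → (List (List (ℕ × List ℤ)))) ?hq9004; (case hq9004 => (set_option maxRecDepth 1000000 in conv => lhs; reduce)); intro _; exact ?xq9004 (@OfNat.ofNat Nat) instOfNatNat (@OfNat.ofNat Int) (@instOfNat) (@Neg.neg Int Int.instNegInt) y2 : List (List (ℕ × List ℤ)))

def RS : List (ℕ × List ℕ) := [(13, [0, 1, 6, 7, 12]), (11, [0, 1, 5, 6, 10])]

theorem hB : allDiv 64561751654400 (tabD 64561751654400 RS (Ds.map PD.fam) 97 B) L 1 = true :=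
  Cfsg.Agent.H653.Sys.Qk.tab 8035032 (by decide +kernel)

section

variable {S : Type u} [Group S] [Finite S] [Fintype (IrrCharacter S)]

theorem tab [IsSimpleGroup S] (hN : Nat.card S = 64561751654400) (hx : ∀ D ∈ Ds, D.Cent S) (hC : ∀ c ∈ Cs, c.Holds S) :
    Tab S (fun g : S => orderOf g) 64561751654400 L (Ds.map PD.fam) Cs B.flatten :=
  Tab.of_primes hN (by norm_num) (by decide +kernel) (by decide +kernel) rfl (by decide +kernel) hx hB hC

variable {lab : S → ℕ}

noncomputable def Q1 : List ℕ :=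
  (by
  refine (?fq9005 : (fun (On : (n : Nat) → OfNat Nat n → Nat) (In : (n : Nat) → OfNat Nat n) => ((pk61l (fun i1 => (pk61o On In (pk61d (nat_lit 23) 
    (nat_lit 0x1e78003c2800740400e65801c8cfc3840006f6000dc3f99a6e08336a80612d20b919015f0002940005136009ff601393e0270b464d16428880010def21f80003cf000797868f0a001ce0003996007233f0dec001b6c0036d14069b820b919016c8002b8180534b40a26c013fec02760004d16428ff701110002139004100007bc000f2f0d1e00003abba073afa0e70001b6c0036d1406d52c4c570016c8002d1e00580000ae0601569bd2aa800538800a696814c3a025800047fb80891c01040002064603de00079d100eaee81d400039d7d071e800d03c218ae00300de05a3c00b3f4c1600002b5000555000a800014e2002987405239e0a280013320025800044c000891c01050902064603db30079d100f04561d4000355200681e10b9a0016c0002cfd30581970ad400150000291cf0514000a1f5e13320024900044c000875a010d1a82100004142407d4c00f6cc01e60003787806aa400d20001810002ffd005cd000b6b9816c0002800004d1fc09240010d1a820e80040f80071c000de1e01baf80339000640000bff4016da002b30804e00009a3f812fc0022ce0041d00077f880e38001c0000333000658380c6000177e402db400566100a4880138000241800471800666000c3000185d002922005100009ab001332002505004718007ff800f6cc01d880030c0005b0000af8001282802490003ffc0079e000e65801a40003400005b0000af80012480022200041d00079e000e38001b6c003400005b68009c00012fc0022200041d000820000e38001b6c003330005550009c0001040001d4000333000618000a28000ea0001860002d800057c000a28001440001a00002d8000480000690000d000013800020800027)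 i1))) (nat_lit 0) (nat_lit 219) List.nil) : List ℕ))
    = ?xq9005 → (List ℕ)) ?hq9005; (case hq9005 => (set_option maxRecDepth 1000000 in conv => lhs; reduce)); intro _; exact ?xq9005 (@OfNat.ofNat Nat) instOfNatNat : List ℕ)

theorem must_1 (C : Tab S lab 64561751654400 L (Ds.map PD.fam) Cs B.flatten) : ∃ d ∈ Q1, d ∈ charDegrees S :=
  Cfsg.Agent.H471.Eight.Qp.must C _ 1
    [⟨-18913164676, 170351198923806, 3835573967623456, [-231555579744932]⟩, ⟨-42534327425, -290296784677282, 0, []⟩]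
    [0, -797909890097709, 0, 0] (by decide +kernel)

noncomputable def Q2 : List ℕ :=
  (by
  refine (?fq9006 : (fun (On : (n : Nat) → OfNat Nat n → Nat) (In : (n : Nat) → OfNat Nat n) => ((pk61l (fun i1 => (pk61o On In (pk61d (nat_lit 23) 
    (nat_lit 0xf3c001e14003a0200732c00e467e1bd800370fe669b820cdaa0184b482e464057c000a5000144d8027fd804e4f809c2d1934590a22000437bc87e0000f3c001e5e1a3c2800738000e65801c8cfc37b0006db000db4501a6e082eb8285c8c80b640015c0c029a5a05136009ff6013b000268b2147fb8088800109c802080003de000797868eaee81cebe839c0006db000db4501b54b1315c005e8000b6400168f002c0000570300ab4de95540029c400534b409600011fee0224700410000819180f78001e74403abba0750000e75f41c7a00340f0862b800c0378168f002cfd30580000ad40015540029c4005239e0a280013320025800044c000891c011160020a12040c8c07b6600f3a201d4000355200681e10b9a0016c0002cfd30581970ad400148e7828a00050faf09990012480022600043ad00868d410800020a1203ea6007b6600e10001bc3c0355200690000c080017fe802e68005b5cc0b6000140000268fe0492000875a0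10d1a821000041d00081f000fa9801c70003787806ebe00ce4001810002ffd005b6800b6b981598402700004d1fc097e0011670020e80040f80077f880e38001c0000333000658380c6000177e402db400566100a4880138000241800471800666000c3000185d002922005100009ab001332002505004718007ff800f6cc01d8800370000686a00c300016c0002be000540000948001282802490003ffc0079e000e65801b1200348000680000b600015f000268000492000888001074001e780038e0006db000d000016da002940004e000097e0011100020e800410000785000e38001bd80036d800666000aaa001380002080003a8000738000e000019980030c0005140007bc000ea0001860002d8000580000af800145000288000370000680000b60001200001a40003400004e00009a00010800020800027) i1))) (nat_lit 0) (nat_lit 236) List.nil) : List ℕ))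
    = ?xq9006 → (List ℕ)) ?hq9006; (case hq9006 => (set_option maxRecDepth 1000000 in conv => lhs; reduce)); intro _; exact ?xq9006 (@OfNat.ofNat Nat) instOfNatNat : List ℕ)

theorem must_2 (C : Tab S lab 64561751654400 L (Ds.map PD.fam) Cs B.flatten) : ∃ d ∈ Q2, d ∈ charDegrees S :=
  Cfsg.Agent.H471.Eight.Qp.must C _ 0
    [⟨-376233984, -148988657664, 48098504982528, [-2716785598464]⟩, ⟨-376233984, -2567796940800, 0, []⟩]
    [0, -1721646710784, 0, 0] (by decide +kernel)

noncomputable def Q3 : List ℕ :=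
  (by
  refine (?fq9007 : (fun (On : (n : Nat) → OfNat Nat n → Nat) (In : (n : Nat) → OfNat Nat n) => ((pk61l (fun i1 => (pk61o On In (pk61d (nat_lit 23) 
    (nat_lit 0x798000de1e01aa900339000668400c3c6c1810002ffd005b5cc0b6000162600287d784d1fc09240012387622ce0042131483a001044b2a07c004012807b56d0e38001bc3c0375f00672000cb070194e6b320000630000c3c6c17fe802efc805b6800acc201518002700004d1fc091c3b120c0022ce00456960890b21084c520e80040128077f880e380019980032c1c06539acc6000185d002efc805c811cb6d001598402922005017209c00013560024b5444830008e300115a582242c83e787077f880ec4001b800035fca0686a00ccc0018600030ba0059b380ad8771491002880004d580098454129000250500496a888e300119eb01ffe003e787079d100ec4001b80003624006bf940d0d4019b54030c000612d20af80015a8002ab7005239e09a0001308a82520004a0a0093a801245c0233d6044c000828480fff001f25703cf000740400e65801b120034000066d500c25a41734002e464057c000aadc014a00027fd804e4f809a0001245c022200043ad00840000fc0001f53003cf000798000f0a001d01003996006f6000db6001ab26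0340000604000b919016d73029a5a0528000a26c013fec02760004e4f808ff7011100020800040f800785000ef3401ce00037b0006ebe00db6001b68a0360000672000c800018ae002d9000570300aaa00144d8027600047fb808b3801123802080003de000750000e70001c000031800062b800c4e00177e402d1e00580000ae06015540029c40051400099900120c00230000448e007bc000f6cc01d400038f400617400b6000168f002c0000538800a280014400026ac004cc800924000dc0001aa90032a00056a0009f78012900024ea00480000898000d89001a40002e68004d0000840001068001810002940004bf0006f6000d800019c80021c00039c000630000c00001180001600002bc0003700004800005a00008400010000006) i1))) (nat_lit 0) (nat_lit 241) List.nil) : List ℕ))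
    = ?xq9007 → (List ℕ)) ?hq9007; (case hq9007 => (set_option maxRecDepth 1000000 in conv => lhs; reduce)); intro _; exact ?xq9007 (@OfNat.ofNat Nat) instOfNatNat : List ℕ)

theorem must_3 (C : Tab S lab 64561751654400 L (Ds.map PD.fam) Cs B.flatten) : ∃ d ∈ Q3, d ∈ charDegrees S :=
  Cfsg.Agent.H471.Eight.Qp.must C _ 1
    [⟨4612722030, 50241881548973, -1674623547049255, [45513133995276]⟩, ⟨9282041877, 63349935809131, 0, []⟩]
    [0, -172553158489634, 0, 0] (by decide +kernel)

noncomputable def Q4 : List ℕ :=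
  (by
  refine (?fq9008 : (fun (On : (n : Nat) → OfNat Nat n → Nat) (In : (n : Nat) → OfNat Nat n) => ((pk61l (fun i1 => (pk61o On In (pk61d (nat_lit 23) 
    (nat_lit 0x1e7800399600708000cdaa0184b482e464057c0009ff601385a3222000437bc87e0000f3c001e5e1a3996006db000b919016c80029a5a04ffb009d80011fee0222000427200820000f2f0d1e000039d7d06db000daa5898ae002d9000555000a696814c3a025800047fb80891c01040002064603a800073afa0e3d001a0784315c00601bc0b3f4c1554002a0000530e80a2800133200258000448e00819180f6cc01e08ac3a80006aa400d03c216c0002cfd30540000a2800143ebc266400492000868d40f6cc01e60003787806aa400d200017fe802d8000589800a00001347f02490004346a083a000f30001c70003787806ebe00bff4016da002b30804e00009a3f812fc0020e8003bfc40779a00e38001c0000375f00666000b6d0016c8002b30805244009c00011c6001c0000333000627000c30001491002880004cc80096000128280238c003ffc007b6600ec4001860002d800057c000a20001282802490003ffc0079e000e65801a40003400005b0000af80012480024000044400083a000f3c001c700036d800690000d000016da002700004bf0008880010740020800038e0006db000ccc001554002700004bf000820000ea0001c0000333000618000a280010e0001d400030c0005b0000af8001450002880003400005b0000af0001200001a40003400004e00009000010400013800020)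 i1))) (nat_lit 0) (nat_lit 175) List.nil) : List ℕ))
    = ?xq9008 → (List ℕ)) ?hq9008; (case hq9008 => (set_option maxRecDepth 1000000 in conv => lhs; reduce)); intro _; exact ?xq9008 (@OfNat.ofNat Nat) instOfNatNat : List ℕ)

theorem must_4 (C : Tab S lab 64561751654400 L (Ds.map PD.fam) Cs B.flatten) : ∃ d ∈ Q4, d ∈ charDegrees S :=
  Cfsg.Agent.H471.Eight.Qp.must C _ 1
    [⟨0, 0, 0, [-91598504566154]⟩, ⟨-1578604129, -10773973178182, 0, []⟩]
    [0, 0, 0, 0] (by decide +kernel)

noncomputable def Q5 : List ℕ :=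
  (by
  refine (?fq9009 : (fun (On : (n : Nat) → OfNat Nat n → Nat) (In : (n : Nat) → OfNat Nat n) => ((pk61l (fun i1 => (pk61o On In (pk61d (nat_lit 23) 
    (nat_lit 0xf30001bc3c0355200668400bff4016c0002c4c0050faf09a3f81248002470ec41d000822595004a01c70003787806ebe00ca7359900002ffd005d7050b6d001598402a30004e00009a3f812387622b4b041d000802500eff101c70003330006539acbd00016da002b3080524400a02e4138000238c004569607cf0e0eff101d880035fca0666000c3000166ce02b61dc524400a2000128280238c004458007ff800f9e1c1d880035fca066d500c3000184b482be000556e00941401275001ffe003e4ae079e000e65801c200034000066d500c25a41723202be000556e009ff601110001e78003996006db000d59301a00003200005c8c80a696813fec027600047fb808880010400020094036d8006c0000c800018ae002aa8004ec0008ff701123802080003a800071e800c570015540028a000460000891c00ea0001c7a002a0000514000999001275001aa90032a0004fbc0093a800f30001068001b00003200004ec0006c00008c0000c000011800005a00006c00006000006) i1))) (nat_lit 0) (nat_lit 132) List.nil) : List ℕ))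
    = ?xq9009 → (List ℕ)) ?hq9009; (case hq9009 => (set_option maxRecDepth 1000000 in conv => lhs; reduce)); intro _; exact ?xq9009 (@OfNat.ofNat Nat) instOfNatNat : List ℕ)

theorem must_5 (C : Tab S lab 64561751654400 L (Ds.map PD.fam) Cs B.flatten) : ∃ d ∈ Q5, d ∈ charDegrees S :=
  Cfsg.Agent.H471.Eight.Qp.must C _ 0
    [⟨0, 0, 0, [431769129910272]⟩, ⟨4514807808, 44371531137024, 0, []⟩]
    [0, 0, -54231871389696, 0] (by decide +kernel)

noncomputable def Q6 : List ℕ :=
  (by
  refine (?fq9010 : (fun (On : (n : Nat) → OfNat Nat n → Nat) (In : (n : Nat) → OfNat Nat n) => ((pk61l (fun i1 => (pk61o On In (pk61d (nat_lit 23) 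
    (nat_lit 0x798000e10001bc3c0355200672000cd0801878d83020005ffa00b6b9816c0002c4c0050faf09a3f81248002470ec459c008426290740020896540f8007b56d0e38001bc3c0375f00672000cb070194e6b320000630000c3c6c17fe802efc805b6800acc201518002700004d1fc091c3b120c0022ce00456960890b21084c520e800401280780000eff101c7000333000658380ca73598c00030ba005df900b902396da002b3080524400a02e413800026ac00496a889060011c60022b4b04485907cf0e0eff101d88003700006bf940d0d4019980030c000617400b367015b0ee298740524400a20001356002611504a400094140125aa2238c00467ac07ff800f9e1c1d88003700006c4800d7f281a1a80336a80618000c25a415f0002ab7005400009a0001308a82520004a0a0093a801245c0233d603ffc007c95c0f3c001d01003996006c4800d000019b5403096905c8c80b130015f0002ab7005280009ff601393e02680004917008880010eb402100003f00007d4c00f3c001e60003c2800740400e65801bd80036d8006ac980d00001810002e46405b5cc0a696814a000289b004ffb009c9f011fee022200041000081f001004a01e14003bcd00738000dec001baf8036d8006da280d800019c80032000062b800b640015c0c02aa8005136009d80011fee022ce00448e00820000f78001d400039c000700000c600018ae003138005df900b47801600002b8180555000a71001450002580004830008c0001123801ef0003a800071e800c2e80168f002c000056a000a71001450002880004d5800999001130001b8000355200654000b9a0015a80027de004a400093a801200002260004200006c4800d2000173400268000420000834000c080014a0002760004bf0006f6000d800019c80021c00039c000630000c00001180001600002bc0003700004800005a00008400010000006)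 i1))) (nat_lit 0) (nat_lit 241) List.nil) : List ℕ))
    = ?xq9010 → (List ℕ)) ?hq9010; (case hq9010 => (set_option maxRecDepth 1000000 in conv => lhs; reduce)); intro _; exact ?xq9010 (@OfNat.ofNat Nat) instOfNatNat : List ℕ)

theorem must_6 (C : Tab S lab 64561751654400 L (Ds.map PD.fam) Cs B.flatten) : ∃ d ∈ Q6, d ∈ charDegrees S :=
  Cfsg.Agent.H471.Eight.Qp.must C _ 1
    [⟨31361466264, 48296658047271, -6009484165596134, [250373338329665]⟩, ⟨31207685470, 306709132799657, 0, []⟩]
    [0, 0, -374866717866248, 0] (by decide +kernel)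

noncomputable def Q7 : List ℕ :=
  (by
  refine (?fq9011 : (fun (On : (n : Nat) → OfNat Nat n → Nat) (In : (n : Nat) → OfNat Nat n) => ((pk61l (fun i1 => (pk61o On In (pk61d (nat_lit 23) 
    (nat_lit 0x79e000f0a001ccb003919f86f6000d370419b5403096905c8c80af800144d8027fd804e168c9a2c851100021bde440128079e000f2f0d1ce0003996006db000db450175c142e4640570300a696813fec023fdc0444000820000f78001e5e1a3c0000757740e75f41b6c0036a96262b800bd000168f002c000055a6f4aaa0014e20029a5a0530e808ff7011238020800040c8c079d100ea0001cebe8340f0862b800b3f4c15a8002aa800540000a473c14500026640044c000891c011160020a12040c8c07b6600f04561d4000355200681e10b9a0016c0002cfd30581970a2800143ebc266400492000875a01080001f53003db300798000e10001bc3c0355200604000bff4016d7302d80005898009a3f812480020e80040f80071c000de1e019c8003200005ffa00b6d001598402760004e00009a3f811670020e80040128077f880e380019980032c1c0630000bbf2016da002b30805244009c000120c00238c0038f400666000c3000185d002922004d58009414011c6001ffe00370000686a00c300015f0002a00004a4000941401275001ffe003cf000732c00d89001a00002be0004d0000888000f3c001e600036d800680000a500011100020800036d8006c0000c8000155400276000410000750000a28001180001d40002d80005140000d80000c)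 i1))) (nat_lit 0) (nat_lit 169) List.nil) : List ℕ))
    = ?xq9011 → (List ℕ)) ?hq9011; (case hq9011 => (set_option maxRecDepth 1000000 in conv => lhs; reduce)); intro _; exact ?xq9011 (@OfNat.ofNat Nat) instOfNatNat : List ℕ)

theorem must_7 (C : Tab S lab 64561751654400 L (Ds.map PD.fam) Cs B.flatten) : ∃ d ∈ Q7, d ∈ charDegrees S :=
  Cfsg.Agent.H471.Eight.Qp.must C _ 1
    [⟨-34729290831, 33426942424615, 264020317102079955, [132033192753183485]⟩, ⟨-17364645415, 3160365465600, 0, []⟩]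
    [0, -347640201216000, -486696281702400, 0] (by decide +kernel)

noncomputable def Q8 : List ℕ :=
  (by
  refine (?fq9012 : (fun (On : (n : Nat) → OfNat Nat n → Nat) (In : (n : Nat) → OfNat Nat n) => ((pk61l (fun i1 => (pk61o On In (pk61d (nat_lit 23) 
    (nat_lit 0x3cc000785000e80801c8cfc37b0006e1fccd37041626002940005136009c9f0134590a009403c2800738000e467e1bd80036d14069b820c8000175c142b81805136009a2c8509c802009403de000757740e70001b68a02f40005a3c00b00001569bd29c400530e8079d100b367015a8002a00005239e08980011160020a1203c11585cd000b032e12750021d6804200007d4c00f30001c20003020005b5cc0b1300103e001ab2603390006400009d800116700200940360000658380c6000177e4024180038f4006174009ab000dc0001a1a802a00004a400093a800d89001340001e60002940003c28006f6000d800019000027600039c0004600007bc000b00000dc00009a0001080000d80000c) i1))) (nat_lit 0) (nat_lit 94) List.nil) : List ℕ))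
    = ?xq9012 → (List ℕ)) ?hq9012; (case hq9012 => (set_option maxRecDepth 1000000 in conv => lhs; reduce)); intro _; exact ?xq9012 (@OfNat.ofNat Nat) instOfNatNat : List ℕ)

theorem must_8 (C : Tab S lab 64561751654400 L (Ds.map PD.fam) Cs B.flatten) : ∃ d ∈ Q8, d ∈ charDegrees S :=
  Cfsg.Agent.H471.Eight.Qp.must C _ 0
    [⟨-282175488, -111741493248, 844346658355200, [421397487673344]⟩, ⟨0, 0, 0, []⟩]
    [0, -1291235033088, 0, 0] (by decide +kernel)

noncomputable def Q9 : List ℕ :=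
  (by
  refine (?fq9013 : (fun (On : (n : Nat) → OfNat Nat n → Nat) (In : (n : Nat) → OfNat Nat n) => ((pk61l (fun i1 => (pk61o On In (pk61d (nat_lit 23) 
    (nat_lit 0x708000ce40019a10030f1b0604000b6b9811670021098a40f8007e0000f6ada1e14003919f86f6000dd7c01a6e08339000658380c60001878d82efc805b2000a8c00144d802760004d1642906001167002242c8421314738000db4501960e0318000617400bbf201720472d9000570300a02e4135600258000496a88906001121641ef0003b1000757740e3d001b8000343500617400c0378168f002c0000538800a61d014400026ac004c22a09600012900024b544467ac079d100ec4001b8000362400686a00ad400155b802a00005239e09a0001308a82520004917008cf5811300021a3504142407c95c0e80801b12003480005cd000aadc014a0002800004e4f809a0001245c021d6804346a0840000fc0001f53003cc000785000e80801bd800375f00604000b6b9814a000289b004e4f8097e00103e001e14003bcd00738000e00001bd800375f006da280ce4001900002d9000570300a26c013b00022ce003de000738000e000018c0003138005df900b47801600002b8180538800a200012c0002418004600007bc000ec4001c7a0030ba005a3c00b000014e2002880004d58006e0000d20001950002b50004fbc009480012750024000044c0006c4800d20001734002680004bf000840001068001810002940004bf000700000dec001b0000339000438000738000c6000180000288000460000580000af0001200001b80003480004800005a00008400010000006)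 i1))) (nat_lit 0) (nat_lit 185) List.nil) : List ℕ))
    = ?xq9013 → (List ℕ)) ?hq9013; (case hq9013 => (set_option maxRecDepth 1000000 in conv => lhs; reduce)); intro _; exact ?xq9013 (@OfNat.ofNat Nat) instOfNatNat : List ℕ)

theorem must_9 (C : Tab S lab 64561751654400 L (Ds.map PD.fam) Cs B.flatten) : ∃ d ∈ Q9, d ∈ charDegrees S :=
  Cfsg.Agent.H471.Eight.Qp.must C _ 1
    [⟨41043707345, 227546313523200, -162977338176307199, [-80240119510704872]⟩, ⟨0, 0, 0, []⟩]
    [0, -657356016844800, 0, 0] (by decide +kernel)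

end

theorem chk : chkP [429, 3080, 13650, 45045]
    [(1, Q1), (1, Q2), (1, Q3), (1, Q4), (1, Q5), (1, Q6), (1, Q7), (1, Q8), (1, Q9)] 4 = true :=
  Cfsg.Agent.H471.Eight.Qp.pack 4099 (by decide +kernel)

/-- **Eight degrees**; `hx` : elements of prime order and their centralizers; `hK` : known degrees. -/
theorem eight {S : Type u} [Group S] [Finite S] [IsSimpleGroup S] (hN : Nat.card S = 64561751654400)
    (hx : ∀ pk ∈ ([(13, 1), (11, 2)] : List (ℕ × ℕ)), ∃ x : S, orderOf x = pk.1 ∧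
      Nat.card (Subgroup.centralizer ({x} : Set S)) = pk.1 * pk.2)
    (hK : ∀ d ∈ ([429, 3080, 13650, 45045] : List ℕ), d ∈ charDegrees S) :
    Eight S := by
  classical
  have := finite_irr (G := S)
  let _ := Fintype.ofFinite (IrrCharacter S)
  have T := tab (S := S) hN (by
    intro D hD
    simp only [Ds, List.mem_cons, List.not_mem_nil, or_false] at hD
    rcases hD with rfl | rfl
    · exact hx (13, 1) (by simp)
    · exact hx (11, 2) (by simp)) (by
    intro c hc
    simp only [Cs, List.mem_cons, List.not_mem_nil, or_false] at hc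
    rcases hc with rfl | rfl | rfl | rfl
    · exact condEq_holds (hK 429 (by simp))
    · exact condEq_holds (hK 3080 (by simp))
    · exact condEq_holds (hK 13650 (by simp))
    · exact condEq_holds (hK 45045 (by simp)))
  refine eight_of_pack [429, 3080, 13650, 45045] hK [(1, Q1), (1, Q2), (1, Q3), (1, Q4), (1, Q5), (1, Q6), (1, Q7), (1, Q8), (1, Q9)] ?_ 4 chk
  intro q hq
  simp only [List.mem_cons, List.not_mem_nil, or_false] at hq
  rcases hq with rfl | rfl | rfl | rfl | rfl | rfl | rfl | rfl | rfl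
  · exact must_1 T
  · exact must_2 T
  · exact must_3 T
  · exact must_4 T
  · exact must_5 T
  · exact must_6 T
  · exact must_7 T
  · exact must_8 T
  · exact must_9 T

end Cfsg.Agent.H471.Eight.CertFi22

private theorem dce_aa3d385070e7 : _root_.True := by
  try have : _root_.True := by simp only [_root_.Cfsg.Agent.H471.Eight.CertFi22.Ds.eq_1]
  try have : _root_.True := by simp only [_root_.Cfsg.Agent.H471.Eight.CertFi22.sub.eq_1]
  try have : _root_.True := by simp only [_root_.Cfsg.Agent.H471.Eight.CertFi22.sub.eq_2]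
  try have : _root_.True := by simp only [_root_.Cfsg.Agent.H471.Eight.CertFi22.sub.eq_3]
  try have : _root_.True := by simp only [_root_.Cfsg.Agent.H471.Eight.CertFi22.sub.eq_def]
  try have : _root_.True := by simp only [_root_.Cfsg.Agent.H471.Eight.CertFi22.Cs.eq_1]
  exact _root_.True.intro
end

-- part: H272/Eight/Degs
section
prune_inst 0xa200000000000040001a42020000000040000000000000088088000000800000a000100000000000000048100000200000000000000000000000000000040000000008000000000000000000000000000000000000000000000000000000000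
set_option linter.all false
open scoped Cfsg.Agent.FastGrp

-- part: H272/Eight/TwoKer
section
/-!
# Constituents of characters induced by linear characters, with their kernels (helper272, for S4899)

`exists_two` : the version of `H115.HC.Two.exists_two` for a central subgroup `Z` in the kernel of `f`;
`exists_one` : the irreducible induced character; `card_of_trans` : the hypotheses on the orders from a doubly
transitive action.
-/

set_option autoImplicit false

open scoped ComplexConjugate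
open Cfsg

namespace Cfsg.Agent.H272.Eight

open Cfsg.Agent.OddOrderCharacters.Clifford Cfsg.Agent.CharactersDeep.MackeyLinear Cfsg.Agent.Characters
  Cfsg.Agent.Characters.Core Cfsg.Agent.H115.HC.Two

universe u v

section

variable {G : Type u} [Group G]

/-- the value of an induced linear character at a central element of the kernel -/
theorem indFun_central [Fintype G] (B : Subgroup G) (f : B →* ℂˣ) {z : G} (hz : z ∈ Subgroup.center G) (hzB : z ∈ B)
    (hf : f ⟨z, hzB⟩ = 1) : indFun B (fun t => (f t : ℂ)) z = indFun B (fun t => (f t : ℂ)) 1 := by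
  classical
  rw [Core.indFun_apply, Core.indFun_apply]
  congr 1
  refine Finset.sum_congr rfl fun x _ => ?_
  have e1 : x⁻¹ * z * x = z := by
    rw [mul_assoc, ← Subgroup.mem_center_iff.1 hz x, ← mul_assoc, inv_mul_cancel, one_mul]
  have e2 : x⁻¹ * 1 * x = 1 := by group
  rw [e1, e2, ext_apply_mem B _ _ hzB, ext_apply_mem B _ _ (one_mem B), hf]
  have : f ⟨1, one_mem B⟩ = 1 := map_one f
  rw [this]

/-- **An irreducible character of degree `|G : B|`.** -/
theorem exists_one [Fintype G] (B : Subgroup G) (f : B →* ℂˣ)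
    (h1 : ∀ x : G, x ∉ B → ∃ (t : B) (hx : x⁻¹ * t * x ∈ B), f t ≠ f ⟨x⁻¹ * t * x, hx⟩)
    (Z : Subgroup G) (hZ : Z ≤ Subgroup.center G) (hZB : Z ≤ B) (hf : ∀ z (hz : z ∈ Z), f ⟨z, hZB hz⟩ = 1) :
    ∃ χ : G → ℂ, IsIrrCharacter G χ ∧ χ 1 = (B.index : ℂ) ∧ ∀ z ∈ Z, χ z = χ 1 := by
  refine ⟨_, isIrrCharacter_indFun B f h1, ?_, fun z hz => indFun_central B f (hZ hz) (hZB hz) (hf z hz)⟩
  rw [Cfsg.Agent.H53.HC.indFun_one, map_one, Units.val_one, mul_one]

/-- **Irreducible characters of the degrees `|G : P|` and `|G : P| q`.** -/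
theorem exists_two [Fintype G] (B P : Subgroup G) (hBP : B ≤ P) (f : P →* ℂˣ)
    (h1 : ∀ x : G, x ∉ P → ∃ (t : B) (hx : x⁻¹ * t * x ∈ B), f ⟨t, hBP t.2⟩ ≠ f ⟨x⁻¹ * t * x, hBP hx⟩)
    {q : ℕ} (hq : 0 < q) (h2 : ∀ x ∈ P, x ∉ B → q * Nat.card (dsub B x) = Nat.card B)
    (h3 : Nat.card P = (q + 1) * Nat.card B)
    (Z : Subgroup G) (hZ : Z ≤ Subgroup.center G) (hZB : Z ≤ B) (hf : ∀ z (hz : z ∈ Z), f ⟨z, hBP (hZB hz)⟩ = 1) :
    ∃ χ₁ χ₂ : G → ℂ, IsIrrCharacter G χ₁ ∧ IsIrrCharacter G χ₂ ∧ χ₁ 1 = (P.index : ℂ) ∧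
      χ₂ 1 = ((P.index * q : ℕ) : ℂ) ∧ (∀ z ∈ Z, χ₁ z = χ₁ 1) ∧ ∀ z ∈ Z, χ₂ z = χ₂ 1 := by
  classical
  have : Fintype B := Fintype.ofFinite B
  have : Fintype P := Fintype.ofFinite P
  have hn := norm_two B P hBP f h1 hq h2 h3
  set θ : B → ℂ := fun t => (f ⟨t, hBP t.2⟩ : ℂ) with hθ
  have hθi : IsIrrCharacter B θ := Linear.isIrrCharacter_hom (f.comp (Subgroup.inclusion hBP))
  have hfi : IsIrrCharacter P (fun t => (f t : ℂ)) := Linear.isIrrCharacter_hom f
  have hker1 : ∀ z ∈ Z, indFun P (fun t => (f t : ℂ)) z = indFun P (fun t => (f t : ℂ)) 1 := fun z hz =>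
    indFun_central P f (hZ hz) (hBP (hZB hz)) (hf z hz)
  have hker2 : ∀ z ∈ Z, indFun B θ z = indFun B θ 1 := fun z hz =>
    indFun_central B (f.comp (Subgroup.inclusion hBP)) (hZ hz) (hZB hz) (hf z hz)
  set χ₁ := indFun P (fun t => (f t : ℂ)) with hχ₁
  have hi1 : IsIrrCharacter G χ₁ := isIrrCharacter_indFun P f fun x hx => by
    obtain ⟨t, ht, hne⟩ := h1 x hx
    exact ⟨⟨t, hBP t.2⟩, hBP ht, hne⟩
  set Θ := indFun B θ with hΘ
  have hΘc : IsCharacter G Θ := Cfsg.Agent.S0148.result B θ (isIrr_isCharacter hθi)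
  have hres : IsCharacter P (fun t : P => χ₁ t) := isCharacter_comp P.subtype (isIrr_isCharacter hi1)
  have hm1 : classInner (fun t : P => χ₁ t) (fun t => (f t : ℂ)) = 1 := by
    have e1 := classInner_indFun P (fun t => (f t : ℂ)) χ₁ (isIrr_isClassFunction hi1)
    rw [← hχ₁, classInner_irr_self hi1] at e1
    have e2 := classInner_conj_symm (fun t => (f t : ℂ)) (fun t : P => χ₁ t)
    rw [← e1, map_one] at e2
    exact e2.symm
  have hsub := isCharacter_sub_irr hres hfi (by rw [hm1]; exact one_ne_zero)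
  have hsubB : IsCharacter B (fun t : B => ((fun t : P => χ₁ t) - (fun t => (f t : ℂ))) (Subgroup.inclusion hBP t)) :=
    isCharacter_comp (Subgroup.inclusion hBP) hsub
  obtain ⟨m, hm⟩ := classInner_isNat (isIrr_isCharacter hθi) hsubB
  have hc : classInner Θ χ₁ = 1 + (m : ℂ) := by
    rw [hΘ, classInner_indFun B θ χ₁ (isIrr_isClassFunction hi1)]
    have e1 : (fun t : B => χ₁ t) =
        θ + (fun t : B => ((fun t : P => χ₁ t) - (fun t => (f t : ℂ))) (Subgroup.inclusion hBP t)) := by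
      funext t
      change χ₁ t = θ t + (χ₁ t - (f ⟨t, hBP t.2⟩ : ℂ))
      rw [hθ]
      ring
    rw [e1, classInner_add_right, classInner_irr_self hθi, hm]
  have hcc : classInner χ₁ Θ = 1 + (m : ℂ) := by
    rw [← classInner_conj_symm, hc, map_add, map_one, Complex.conj_natCast]
  have hDc : IsCharacter G (Θ - χ₁) := isCharacter_sub_irr hΘc hi1 (by
    rw [hc]
    exact_mod_cast (show (1 + m) ≠ 0 by omega))
  have hD : classInner (Θ - χ₁) (Θ - χ₁) = 1 - 2 * (m : ℂ) := by
    rw [classInner_sub_left, classInner_sub_right, classInner_sub_right, hn, hc, hcc, classInner_irr_self hi1]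
    ring
  obtain ⟨k, hk⟩ := classInner_isNat hDc hDc
  have hm0 : m = 0 := by
    rw [hk] at hD
    have h4 : ((k + 2 * m : ℕ) : ℂ) = ((1 : ℕ) : ℂ) := by
      push_cast
      linear_combination hD
    have h5 : k + 2 * m = 1 := by exact_mod_cast h4
    omega
  have hi2 : IsIrrCharacter G (Θ - χ₁) := by
    rw [isIrr_iff_classInner_self hDc, hD, hm0, Nat.cast_zero, mul_zero, sub_zero]
  have hBi : B.index = P.index * (q + 1) := by
    have h4 := Subgroup.relIndex_mul_index hBP
    have h5 : B.relIndex P = q + 1 := by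
      have h6 := Subgroup.card_mul_index (B.subgroupOf P)
      rw [h3, Nat.card_congr (Subgroup.subgroupOfEquivOfLe hBP).toEquiv, mul_comm (q + 1)] at h6
      exact Nat.eq_of_mul_eq_mul_left Nat.card_pos h6
    rw [← h4, h5, mul_comm]
  have hv1 : χ₁ 1 = (P.index : ℂ) := by
    rw [hχ₁, Cfsg.Agent.H53.HC.indFun_one, map_one, Units.val_one, mul_one]
  have hv2 : Θ 1 = ((P.index * (q + 1) : ℕ) : ℂ) := by
    have e2 : θ 1 = 1 := by
      change (f ⟨(1 : B), _⟩ : ℂ) = 1
      have : (⟨((1 : B) : G), hBP (1 : B).2⟩ : P) = 1 := rfl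
      rw [this, map_one, Units.val_one]
    rw [hΘ, Cfsg.Agent.H53.HC.indFun_one, e2, mul_one, hBi]
  refine ⟨χ₁, Θ - χ₁, hi1, hi2, hv1, ?_, hker1, fun z hz => ?_⟩
  · rw [Pi.sub_apply, hv1, hv2]
    push_cast
    ring
  · rw [Pi.sub_apply, Pi.sub_apply, hker1 z hz, hker2 z hz]

end

section act

variable {G : Type u} [Group G] [Finite G] {X : Type v} [MulAction G X]

omit [Finite G] in
theorem orbit_stab (H : Subgroup G) (x : X) :
    Nat.card (MulAction.orbit H x) * Nat.card (MulAction.stabilizer H x) = Nat.card H := by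
  rw [← Nat.card_prod]
  exact Nat.card_congr (MulAction.orbitProdStabilizerEquivGroup H x)

omit [Finite G] in
/-- the orders of the stabilisers in a doubly transitive action of `P` on `S` -/
theorem card_of_trans (P B : Subgroup G) (S : Set X) (l : X) {q : ℕ} (hS : Nat.card S = q + 1) (hl : l ∈ S)
    (hinv : ∀ g ∈ P, ∀ m ∈ S, g • m ∈ S) (hB : ∀ g, g ∈ B ↔ g ∈ P ∧ g • l = l)
    (h1 : ∀ m ∈ S, ∃ g ∈ P, g • l = m) (h2 : ∀ m ∈ S, ∀ m' ∈ S, m ≠ l → m' ≠ l → ∃ g ∈ B, g • m = m') :
    Nat.card P = (q + 1) * Nat.card B ∧ ∀ x ∈ P, x ∉ B → q * Nat.card (dsub B x) = Nat.card B := by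
  classical
  have hBP : B ≤ P := fun g hg => ((hB g).1 hg).1
  have hfin : Finite S := by
    apply Nat.finite_of_card_ne_zero
    rw [hS]
    omega
  constructor
  · have e := orbit_stab P l
    have e1 : Nat.card (MulAction.orbit P l) = q + 1 := by
      rw [← hS]
      refine Nat.card_congr (Equiv.setCongr ?_)
      ext m
      constructor
      · rintro ⟨g, rfl⟩
        exact hinv g g.2 l hl
      · intro hm
        obtain ⟨g, hg, rfl⟩ := h1 m hm
        exact ⟨⟨g, hg⟩, rfl⟩
    have e2 : Nat.card (MulAction.stabilizer P l) = Nat.card B := by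
      refine Nat.card_congr ⟨fun g => ⟨g.1.1, (hB _).2 ⟨g.1.2, g.2⟩⟩, fun g => ⟨⟨g.1, hBP g.2⟩, ((hB _).1 g.2).2⟩,
        fun g => rfl, fun g => rfl⟩
    rw [← e, e1, e2]
  · intro x hx hxB
    have hxl : x • l ≠ l := fun h => hxB ((hB x).2 ⟨hx, h⟩)
    have hxS : x • l ∈ S := hinv x hx l hl
    have e := orbit_stab B (x • l)
    have e1 : Nat.card (MulAction.orbit B (x • l)) = q := by
      have h3 : MulAction.orbit B (x • l) = S \ {l} := by
        ext m
        constructor
        · rintro ⟨g, rfl⟩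
          refine ⟨hinv g (hBP g.2) _ hxS, fun h => hxl ?_⟩
          have h4 : (g : G) • (x • l) = l := h
          have h5 := ((hB _).1 g.2).2
          have h6 : (g : G) • (x • l) = (g : G) • l := h4.trans h5.symm
          exact MulAction.injective _ h6
        · rintro ⟨hm, hml⟩
          obtain ⟨g, hg, hg'⟩ := h2 _ hxS m hm hxl hml
          exact ⟨⟨g, hg⟩, hg'⟩
      rw [h3, Nat.card_coe_set_eq, Set.ncard_sdiff (Set.singleton_subset_iff.2 hl), Set.ncard_singleton,
        ← Nat.card_coe_set_eq, hS, Nat.add_sub_cancel]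
    have e2 : Nat.card (MulAction.stabilizer B (x • l)) = Nat.card (dsub B x) := by
      refine Nat.card_congr (Equiv.subtypeEquivRight fun t => ?_)
      rw [mem_dsub, hB, MulAction.mem_stabilizer_iff]
      constructor
      · intro h
        refine ⟨mul_mem (mul_mem (inv_mem hx) (hBP t.2)) hx, ?_⟩
        have h4 : (t : G) • (x • l) = x • l := h
        rw [mul_smul, mul_smul, h4, inv_smul_smul]
      · rintro ⟨-, h⟩
        rw [mul_smul, mul_smul, inv_smul_eq_iff] at h
        exact h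
    rw [← e, e1, e2]

end act

end Cfsg.Agent.H272.Eight
end

-- part: H272/Eight/Sieg
section
/-!
# Characters of `Sp₄(q)` induced from the Siegel parabolic and from the Borel subgroup (helper272, for S4899)
-/

set_option autoImplicit false

open Cfsg

namespace Cfsg.Agent.H272.Eight

open Module Cfsg.Agent.H477.HC Cfsg.Agent.H53.HC Cfsg.Agent.OddOrderCharacters.Clifford

universe u v

section geom

variable {K : Type u} [Field K] {V : Type v} [AddCommGroup V] [Module K V] (F : CForm K V)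

/-- the determinant on an invariant subspace -/
noncomputable def detHom (W : Submodule K V) : stabW F.iso.subtype W →* Kˣ :=
  LinearEquiv.det.comp (resHom F.iso.subtype W)

/-- the determinant of an element which is a homothety on `e` and trivial on the orthogonal of `f` -/
theorem detHom_of [FiniteDimensional K V] {W : Submodule K V} {g : F.iso} (hg : g ∈ stabW F.iso.subtype W) {e f : V}
    (he : e ∈ W) (hef : F.B e f ≠ 0) {b : Kˣ} (h1 : (g : V ≃ₗ[K] V) e = (b : K) • e)
    (h2 : ∀ v ∈ W, F.B v f = 0 → (g : V ≃ₗ[K] V) v = v) : detHom F W ⟨g, hg⟩ = b := by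
  apply Units.ext
  change ((LinearEquiv.det (res (F.iso.subtype g) W hg) : Kˣ) : K) = b
  rw [LinearEquiv.coe_det]
  have h3 : ((res (F.iso.subtype g) W hg : W ≃ₗ[K] W) : W →ₗ[K] W) =
      LinearMap.transvection ((((b : K) - 1) * (F.B e f)⁻¹) • (F.lf f).comp W.subtype) ⟨e, he⟩ := by
    apply LinearMap.ext
    intro w
    apply Subtype.ext
    rw [LinearMap.transvection.apply]
    change (g : V ≃ₗ[K] V) (w : V) = (w : V) + ((((b : K) - 1) * (F.B e f)⁻¹) * F.B w f) • e
    have h4 := h2 ((w : V) - (F.B w f * (F.B e f)⁻¹) • e) (W.sub_mem w.2 (W.smul_mem _ he)) (by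
      rw [F.B_sub_left, F.B_smul_left, mul_assoc, inv_mul_cancel₀ hef, mul_one, sub_self])
    rw [map_sub, map_smul, h1] at h4
    have h5 : (g : V ≃ₗ[K] V) (w : V) = (w : V) - (F.B w f * (F.B e f)⁻¹) • e +
        (F.B w f * (F.B e f)⁻¹) • (b : K) • e := by
      rw [← h4]
      abel
    rw [h5]
    module
  rw [h3, LinearMap.transvection.det]
  change 1 + (((b : K) - 1) * (F.B e f)⁻¹) * F.B e f = b
  rw [mul_assoc, inv_mul_cancel₀ hef]
  ring

theorem detHom_one {W : Submodule K V} {g : F.iso} (hg : g ∈ stabW F.iso.subtype W)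
    (h : ∀ v ∈ W, (g : V ≃ₗ[K] V) v = v) : detHom F W ⟨g, hg⟩ = 1 := by
  have h3 : resHom F.iso.subtype W ⟨g, hg⟩ = 1 := by
    apply LinearEquiv.ext
    intro w
    apply Subtype.ext
    exact h w w.2
  unfold detHom
  rw [MonoidHom.comp_apply, h3, map_one]

theorem detHom_smul [FiniteDimensional K V] {W : Submodule K V} {g : F.iso} (hg : g ∈ stabW F.iso.subtype W)
    {a : K} (h : ∀ v ∈ W, (g : V ≃ₗ[K] V) v = a • v) : ((detHom F W ⟨g, hg⟩ : Kˣ) : K) = a ^ finrank K W := by
  change ((LinearEquiv.det (res (F.iso.subtype g) W hg) : Kˣ) : K) = _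
  rw [LinearEquiv.coe_det]
  have h3 : ((res (F.iso.subtype g) W hg : W ≃ₗ[K] W) : W →ₗ[K] W) = a • LinearMap.id := by
    apply LinearMap.ext
    intro w
    apply Subtype.ext
    exact h w w.2
  rw [h3, LinearMap.det_smul, LinearMap.det_id, mul_one]

/-- **the torus elements** -/
theorem exists_s [FiniteDimensional K V] {e f : V} (he : F.Sing e) (hf : F.Sing f) (hef : F.B e f ≠ 0)
    (hσ : ∀ a, F.σ a = a) (b : Kˣ) : ∃ g : F.iso, (g : V ≃ₗ[K] V) e = (b : K) • e ∧
      (g : V ≃ₗ[K] V) f = ((b⁻¹ : Kˣ) : K) • f ∧ ∀ v, F.B v e = 0 → F.B v f = 0 → (g : V ≃ₗ[K] V) v = v := by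
  have ts : ∀ {x : V}, F.Sing x → F.TS (K ∙ x) := by
    intro x hx
    refine ⟨fun w hw => ?_, fun w hw w' hw' => ?_⟩
    · obtain ⟨c, rfl⟩ := Submodule.mem_span_singleton.1 hw
      rw [F.Q_smul, hx.1, mul_zero]
    · obtain ⟨c, rfl⟩ := Submodule.mem_span_singleton.1 hw
      obtain ⟨c', rfl⟩ := Submodule.mem_span_singleton.1 hw'
      rw [F.B_smul_left, F.B_smul_right, hx.2, mul_zero, mul_zero]
  obtain ⟨g, h1, h2, h3, -⟩ := F.exists_levi (ts he) (ts hf) (fun w hw hw' => by
      obtain ⟨c, rfl⟩ := Submodule.mem_span_singleton.1 hw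
      have h4 := hw' f (Submodule.mem_span_singleton_self f)
      rw [F.B_smul_left] at h4
      rw [(mul_eq_zero.1 h4).resolve_right hef, zero_smul]) (fun w hw hw' => by
      obtain ⟨c, rfl⟩ := Submodule.mem_span_singleton.1 hw
      have h4 := hw' e (Submodule.mem_span_singleton_self e)
      rw [F.B_smul_right, hσ] at h4
      rw [(mul_eq_zero.1 h4).resolve_right hef, zero_smul]) (LinearEquiv.smulOfUnit b)
  have hge : (g : V ≃ₗ[K] V) e = (b : K) • e := h1 ⟨e, Submodule.mem_span_singleton_self e⟩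
  obtain ⟨c, hc⟩ := Submodule.mem_span_singleton.1 (h2 f (Submodule.mem_span_singleton_self f))
  refine ⟨g, hge, ?_, fun v hv hv' => h3 v (fun w hw => ?_) (fun w hw => ?_)⟩
  · have h4 := F.iso_B g e f
    rw [hge, ← hc, F.B_smul_left, F.B_smul_right, hσ, ← mul_assoc] at h4
    have h5 : (b : K) * c = 1 := by
      have h6 : ((b : K) * c - 1) * F.B e f = 0 := by rw [sub_mul, h4, one_mul, sub_self]
      exact sub_eq_zero.1 ((mul_eq_zero.1 h6).resolve_right hef)
    rw [← hc, Units.val_inv_eq_inv_val, eq_inv_of_mul_eq_one_right h5]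
  · obtain ⟨c, rfl⟩ := Submodule.mem_span_singleton.1 hw
    rw [F.B_smul_right, hv, mul_zero]
  · obtain ⟨c, rfl⟩ := Submodule.mem_span_singleton.1 hw
    rw [F.B_smul_right, hv', mul_zero]

variable {F}

/-- an invariant subspace of a torus element -/
theorem s_mem [FiniteDimensional K V] {W : Submodule K V} {g : F.iso} {e f : V} (he : e ∈ W) (hef : F.B e f ≠ 0)
    {b : K} (h1 : (g : V ≃ₗ[K] V) e = b • e) (h2 : ∀ v ∈ W, F.B v f = 0 → (g : V ≃ₗ[K] V) v = v) :
    g ∈ stabW F.iso.subtype W := by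
  refine map_eq_of_le F.iso.subtype fun w hw => ?_
  change (g : V ≃ₗ[K] V) w ∈ W
  have h4 := h2 (w - (F.B w f * (F.B e f)⁻¹) • e) (W.sub_mem hw (W.smul_mem _ he)) (by
      rw [F.B_sub_left, F.B_smul_left, mul_assoc, inv_mul_cancel₀ hef, mul_one, sub_self])
  rw [map_sub, map_smul, h1] at h4
  have h5 : (g : V ≃ₗ[K] V) w = w - (F.B w f * (F.B e f)⁻¹) • e + (F.B w f * (F.B e f)⁻¹) • b • e := by
    rw [← h4]
    abel
  rw [h5]
  exact W.add_mem (W.sub_mem hw (W.smul_mem _ he)) (W.smul_mem _ (W.smul_mem _ he))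

theorem mem_stab_of_fix [FiniteDimensional K V] {W : Submodule K V} {g : F.iso}
    (h2 : ∀ v ∈ W, (g : V ≃ₗ[K] V) v = v) : g ∈ stabW F.iso.subtype W :=
  map_eq_of_le F.iso.subtype fun w hw => by
    change (g : V ≃ₗ[K] V) w ∈ W
    rw [h2 w hw]
    exact hw

/-- a pair `e, f` adapted to two flags -/
theorem exists_ef {W W' : Submodule K V} (hne : ¬ W ≤ F.perp W') {u u' : V} (hu : u ∈ W) (hu' : u' ∈ W') :
    ∃ e f, e ∈ W ∧ f ∈ W' ∧ F.B e f ≠ 0 ∧ (e = u ∨ F.B u f = 0) ∧ (f = u' ∨ F.B u' e = 0) := by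
  by_cases h1 : F.B u u' = 0
  · by_cases h2 : ∃ f ∈ W', F.B u f ≠ 0
    · obtain ⟨f, hf, hf'⟩ := h2
      exact ⟨u, f, hu, hf, hf', Or.inl rfl, Or.inr (F.B_eq_zero h1)⟩
    · push Not at h2
      by_cases h3 : ∃ e ∈ W, F.B e u' ≠ 0
      · obtain ⟨e, he, he'⟩ := h3
        exact ⟨e, u', he, hu', he', Or.inr h1, Or.inl rfl⟩
      · push Not at h3
        obtain ⟨e, he, he'⟩ := SetLike.not_le_iff_exists.1 hne
        rw [F.mem_perp] at he'
        push Not at he'
        obtain ⟨f, hf, hf'⟩ := he'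
        exact ⟨e, f, he, hf, hf', Or.inr (h2 f hf), Or.inr (F.B_eq_zero (h3 e he))⟩
  · exact ⟨u, u', hu, hu', h1, Or.inl rfl, Or.inl rfl⟩

theorem inv_ap (g : F.iso) (v : V) : ((g⁻¹ : F.iso) : V ≃ₗ[K] V) ((g : V ≃ₗ[K] V) v) = v :=
  (g : V ≃ₗ[K] V).symm_apply_apply v

theorem ap_inv (g : F.iso) (v : V) : (g : V ≃ₗ[K] V) (((g⁻¹ : F.iso) : V ≃ₗ[K] V) v) = v :=
  (g : V ≃ₗ[K] V).apply_symm_apply v

theorem B_inv' (g : F.iso) (u v : V) : F.B u (((g⁻¹ : F.iso) : V ≃ₗ[K] V) v) = F.B ((g : V ≃ₗ[K] V) u) v := by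
  rw [← F.iso_B g, ap_inv]

theorem inv_mul_mul_ap (x t : F.iso) (v : V) : ((x⁻¹ * t * x : F.iso) : V ≃ₗ[K] V) v =
    ((x⁻¹ : F.iso) : V ≃ₗ[K] V) ((t : V ≃ₗ[K] V) ((x : V ≃ₗ[K] V) v)) := rfl

/-- two flags with different `W` -/
theorem sep_one [FiniteDimensional K V] (hσ : ∀ a, F.σ a = a) (hS : ∀ v, F.Sing v) {W : Submodule K V}
    (hW : F.TS W) (hWp : F.perp W = W) {u : V} (hu : u ∈ W) (hu0 : u ≠ 0) {x : F.iso}
    (hx : x ∉ stabW F.iso.subtype W) (b : Kˣ) :
    ∃ (t : F.iso) (h1 : t ∈ stabW F.iso.subtype W) (h2 : t ∈ stabW F.iso.subtype (K ∙ u))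
      (h3 : x⁻¹ * t * x ∈ stabW F.iso.subtype W) (h4 : x⁻¹ * t * x ∈ stabW F.iso.subtype (K ∙ u)),
      detHom F W ⟨t, h1⟩ = b ∧ detHom F W ⟨_, h3⟩ = b⁻¹ ∧
      (detHom F (K ∙ u) ⟨t, h2⟩ = b ∨ detHom F (K ∙ u) ⟨t, h2⟩ = 1) ∧
      (detHom F (K ∙ u) ⟨_, h4⟩ = b⁻¹ ∨ detHom F (K ∙ u) ⟨_, h4⟩ = 1) := by
  obtain ⟨W', hW'⟩ : ∃ W', W' = W.map (F.iso.subtype x : V →ₗ[K] V) := ⟨_, rfl⟩
  have hW'x : ∀ w ∈ W, (x : V ≃ₗ[K] V) w ∈ W' := fun w hw => hW' ▸ ⟨w, hw, rfl⟩
  have hW'i : ∀ w ∈ W', ((x⁻¹ : F.iso) : V ≃ₗ[K] V) w ∈ W := by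
    intro w hw
    rw [hW'] at hw
    obtain ⟨w, hw, rfl⟩ := hw
    change ((x⁻¹ : F.iso) : V ≃ₗ[K] V) ((x : V ≃ₗ[K] V) w) ∈ W
    rw [inv_ap]
    exact hw
  have hTS' : F.TS W' := hW' ▸ hW.map x
  have hne : ¬ W ≤ F.perp W' := by
    intro hle
    apply hx
    have h1 : W' ≤ W := by
      rw [← hWp]
      intro w hw v hv
      exact F.B_eq_zero (hle hv w hw)
    refine map_eq_of_le F.iso.subtype fun w hw => h1 (hW'x w hw)
  obtain ⟨e, f, he, hf, hef, ho1, ho2⟩ := exists_ef hne hu (hW'x u hu)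
  have hfe : F.B f e ≠ 0 := fun h => hef (F.B_eq_zero h)
  obtain ⟨t, ht1, ht2, ht3⟩ := exists_s F (hS e) (hS f) hef hσ b
  have hfix : ∀ v ∈ W, F.B v f = 0 → (t : V ≃ₗ[K] V) v = v := fun v hv hv' => ht3 v (hW.2 v hv e he) hv'
  have hfix' : ∀ v ∈ W', F.B v e = 0 → (t : V ≃ₗ[K] V) v = v := fun v hv hv' => ht3 v hv' (hTS'.2 v hv f hf)
  -- the conjugate
  obtain ⟨f', hf'⟩ : ∃ f', f' = ((x⁻¹ : F.iso) : V ≃ₗ[K] V) f := ⟨_, rfl⟩
  obtain ⟨e', he'⟩ : ∃ e', e' = ((x⁻¹ : F.iso) : V ≃ₗ[K] V) e := ⟨_, rfl⟩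
  have hf'W : f' ∈ W := hf' ▸ hW'i f hf
  have hfe' : F.B f' e' ≠ 0 := by rw [hf', he', F.iso_B]; exact hfe
  have hc1 : ((x⁻¹ * t * x : F.iso) : V ≃ₗ[K] V) f' = ((b⁻¹ : Kˣ) : K) • f' := by
    rw [inv_mul_mul_ap, hf', ap_inv, ht2, map_smul]
  have hcfix : ∀ v ∈ W, F.B v e' = 0 → ((x⁻¹ * t * x : F.iso) : V ≃ₗ[K] V) v = v := by
    intro v hv hv'
    rw [he', B_inv'] at hv'
    rw [inv_mul_mul_ap, hfix' _ (hW'x v hv) hv', inv_ap]
  have m1 : t ∈ stabW F.iso.subtype W := s_mem he hef ht1 hfix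
  have m3 : x⁻¹ * t * x ∈ stabW F.iso.subtype W := s_mem hf'W hfe' hc1 hcfix
  have hul : u ∈ (K ∙ u) := Submodule.mem_span_singleton_self u
  have hle : (K ∙ u) ≤ W := (Submodule.span_singleton_le_iff_mem _ _).2 hu
  have d2 : ∃ m2 : t ∈ stabW F.iso.subtype (K ∙ u),
      detHom F (K ∙ u) ⟨t, m2⟩ = b ∨ detHom F (K ∙ u) ⟨t, m2⟩ = 1 := by
    rcases ho1 with rfl | h
    · exact ⟨s_mem hul hef ht1 fun v hv hv' => hfix v (hle hv) hv',
        Or.inl (detHom_of F _ hul hef ht1 fun v hv hv' => hfix v (hle hv) hv')⟩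
    · have h5 : ∀ v ∈ (K ∙ u), (t : V ≃ₗ[K] V) v = v := by
        intro v hv
        obtain ⟨c, rfl⟩ := Submodule.mem_span_singleton.1 hv
        refine hfix _ (hle hv) ?_
        rw [F.B_smul_left, h, mul_zero]
      exact ⟨mem_stab_of_fix h5, Or.inr (detHom_one F _ h5)⟩
  have d4 : ∃ m4 : x⁻¹ * t * x ∈ stabW F.iso.subtype (K ∙ u),
      detHom F (K ∙ u) ⟨_, m4⟩ = b⁻¹ ∨ detHom F (K ∙ u) ⟨_, m4⟩ = 1 := by
    rcases ho2 with h | h
    · have hfu : f' = u := by rw [hf', h, inv_ap]
      rw [hfu] at hfe' hc1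
      exact ⟨s_mem hul hfe' hc1 fun v hv hv' => hcfix v (hle hv) hv',
        Or.inl (detHom_of F _ hul hfe' hc1 fun v hv hv' => hcfix v (hle hv) hv')⟩
    · have h5 : ∀ v ∈ (K ∙ u), ((x⁻¹ * t * x : F.iso) : V ≃ₗ[K] V) v = v := by
        intro v hv
        obtain ⟨c, rfl⟩ := Submodule.mem_span_singleton.1 hv
        refine hcfix _ (hle hv) ?_
        rw [F.B_smul_left, he', B_inv', h, mul_zero]
      exact ⟨mem_stab_of_fix h5, Or.inr (detHom_one F _ h5)⟩
  obtain ⟨m2, d2⟩ := d2
  obtain ⟨m4, d4⟩ := d4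
  exact ⟨t, m1, m2, m3, m4, detHom_of F _ he hef ht1 hfix, detHom_of F _ hf'W hfe' hc1 hcfix, d2, d4⟩

/-- two flags with the same `W` -/
theorem sep_two [FiniteDimensional K V] (hσ : ∀ a, F.σ a = a) (hS : ∀ v, F.Sing v) {W : Submodule K V}
    (hW : F.TS W) {u : V} (hu : u ∈ W) (hu0 : u ≠ 0) {x : F.iso}
    (hx : x ∈ stabW F.iso.subtype W) (hxu : x ∉ stabW F.iso.subtype (K ∙ u)) (b : Kˣ) :
    ∃ (t : F.iso) (h1 : t ∈ stabW F.iso.subtype W) (h2 : t ∈ stabW F.iso.subtype (K ∙ u))
      (h3 : x⁻¹ * t * x ∈ stabW F.iso.subtype W) (h4 : x⁻¹ * t * x ∈ stabW F.iso.subtype (K ∙ u)),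
      detHom F W ⟨t, h1⟩ = b ∧ detHom F W ⟨_, h3⟩ = b ∧
      detHom F (K ∙ u) ⟨t, h2⟩ = b ∧ detHom F (K ∙ u) ⟨_, h4⟩ = 1 := by
  classical
  obtain ⟨u', hu'⟩ : ∃ u', u' = (x : V ≃ₗ[K] V) u := ⟨_, rfl⟩
  have hxW : ∀ w ∈ W, (x : V ≃ₗ[K] V) w ∈ W := by
    intro w hw
    rw [mem_stabW] at hx
    rw [← hx]
    exact ⟨w, hw, rfl⟩
  have hxW' : ∀ w ∈ W, ((x⁻¹ : F.iso) : V ≃ₗ[K] V) w ∈ W := by
    intro w hw
    have hx' := inv_mem hx
    rw [mem_stabW] at hx'
    rw [← hx']
    exact ⟨w, hw, rfl⟩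
  have hu'W : u' ∈ W := hu' ▸ hxW u hu
  have hns : u ∉ (K ∙ u') := by
    intro h
    apply hxu
    obtain ⟨c, hc⟩ := Submodule.mem_span_singleton.1 h
    have hc0 : c ≠ 0 := by
      rintro rfl
      rw [zero_smul] at hc
      exact hu0 hc.symm
    refine map_eq_of_le F.iso.subtype fun w hw => ?_
    obtain ⟨d, rfl⟩ := Submodule.mem_span_singleton.1 hw
    change (x : V ≃ₗ[K] V) (d • u) ∈ (K ∙ u)
    rw [map_smul, ← hu', Submodule.mem_span_singleton]
    refine ⟨d * c⁻¹, ?_⟩
    rw [← hc, smul_smul, mul_assoc, inv_mul_cancel₀ hc0, mul_one]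
  -- a vector orthogonal to `u'`, not to `u`
  obtain ⟨f, hf, hf'⟩ : ∃ f, F.B u f ≠ 0 ∧ F.B u' f = 0 := by
    obtain ⟨φ, hφ, hφ'⟩ := Submodule.exists_dual_map_eq_bot_of_notMem hns inferInstance
    obtain ⟨f, hf⟩ := F.exists_dual φ
    refine ⟨f, by rw [← hf]; exact hφ, ?_⟩
    rw [← hf]
    have : φ u' ∈ (K ∙ u').map φ := ⟨u', Submodule.mem_span_singleton_self u', rfl⟩
    rw [hφ'] at this
    exact (Submodule.mem_bot K).1 this
  obtain ⟨t, ht1, ht2, ht3⟩ := exists_s F (hS u) (hS f) hf hσ b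
  have hfix : ∀ v ∈ W, F.B v f = 0 → (t : V ≃ₗ[K] V) v = v := fun v hv hv' => ht3 v (hW.2 v hv u hu) hv'
  have hul : u ∈ (K ∙ u) := Submodule.mem_span_singleton_self u
  have hle : (K ∙ u) ≤ W := (Submodule.span_singleton_le_iff_mem _ _).2 hu
  have m1 : t ∈ stabW F.iso.subtype W := s_mem hu hf ht1 hfix
  have m2 : t ∈ stabW F.iso.subtype (K ∙ u) := s_mem hul hf ht1 fun v hv hv' => hfix v (hle hv) hv'
  have m3 : x⁻¹ * t * x ∈ stabW F.iso.subtype W := mul_mem (mul_mem (inv_mem hx) m1) hx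
  have h5 : ∀ v ∈ (K ∙ u), ((x⁻¹ * t * x : F.iso) : V ≃ₗ[K] V) v = v := by
    intro v hv
    obtain ⟨c, rfl⟩ := Submodule.mem_span_singleton.1 hv
    rw [map_smul, inv_mul_mul_ap, ← hu', hfix u' hu'W hf', hu', inv_ap]
  have m4 : x⁻¹ * t * x ∈ stabW F.iso.subtype (K ∙ u) := mem_stab_of_fix h5
  refine ⟨t, m1, m2, m3, m4, detHom_of F _ hu hf ht1 hfix, ?_,
    detHom_of F _ hul hf ht1 fun v hv hv' => hfix v (hle hv) hv', detHom_one F _ h5⟩
  obtain ⟨y, hy⟩ : ∃ y, y = ((x⁻¹ : F.iso) : V ≃ₗ[K] V) u := ⟨_, rfl⟩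
  obtain ⟨f', hf''⟩ : ∃ f', f' = ((x⁻¹ : F.iso) : V ≃ₗ[K] V) f := ⟨_, rfl⟩
  refine detHom_of F m3 (e := y) (f := f') (hy ▸ hxW' u hu) ?_ ?_ ?_
  · rw [hy, hf'', F.iso_B]
    exact hf
  · rw [inv_mul_mul_ap, hy, ap_inv, ht1, map_smul]
  · intro v hv hv'
    rw [hf'', B_inv'] at hv'
    rw [inv_mul_mul_ap, hfix _ (hxW v hv) hv', inv_ap]

end geom

end Cfsg.Agent.H272.Eight
end

-- part: H272/Eight/Count
section
/-!
# The parabolic subgroups of `Sp₄(q)`: orders and characters (helper272, for S4899)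
-/

set_option autoImplicit false

open Cfsg
open scoped LinearAlgebra.Projectivization

namespace Cfsg.Agent.H272.Eight

open Module Cfsg.Agent.H477.HC Cfsg.Agent.H53.HC Cfsg.Agent.OddOrderCharacters.Clifford

universe u v

section lines

variable {K : Type u} [Field K] {V : Type v} [AddCommGroup V] [Module K V]

/-- the number of the lines of a plane -/
theorem card_lines [Finite K] {W : Submodule K V} (hW : finrank K W = 2) :
    Nat.card {m : Submodule K V // m ≤ W ∧ finrank K m = 1} = Nat.card K + 1 := by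
  have h1 : Nat.card (ℙ K W) = Nat.card K + 1 := by
    rw [Projectivization.card_of_finrank K W (n := 2) hW, Finset.sum_range_succ, Finset.sum_range_one,
      pow_zero, pow_one, add_comm]
  rw [← h1]
  symm
  refine Nat.card_congr ((Projectivization.equivSubmodule K W).trans
    { toFun := fun m => ⟨m.1.map W.subtype, Submodule.map_subtype_le W m.1, by
        exact (Submodule.finrank_map_subtype_eq W m.1).trans m.2⟩
      invFun := fun m => ⟨m.1.comap W.subtype, ?_⟩
      left_inv := fun m => Subtype.ext (Submodule.comap_map_eq_of_injective W.injective_subtype m.1)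
      right_inv := fun m => Subtype.ext ?_ })
  · have h2 : (m.1.comap W.subtype).map W.subtype = m.1 := by
      rw [Submodule.map_comap_subtype, inf_eq_right]
      exact m.2.1
    rw [← Submodule.finrank_map_subtype_eq W, h2]
    exact m.2.2
  · change (m.1.comap W.subtype).map W.subtype = m.1
    rw [Submodule.map_comap_subtype, inf_eq_right]
    exact m.2.1

/-- an automorphism of a plane -/
theorem exists_aut {W : Submodule K V} (hW : finrank K W = 2) {u v u' v' : V} (hu : u ∈ W) (hv : v ∈ W)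
    (hu' : u' ∈ W) (hv' : v' ∈ W) (h : LinearIndependent K ![u, v]) (h' : LinearIndependent K ![u', v']) :
    ∃ a : W ≃ₗ[K] W, ((a ⟨u, hu⟩ : W) : V) = u' ∧ ((a ⟨v, hv⟩ : W) : V) = v' := by
  have key : ∀ {x y : V} (hx : x ∈ W) (hy : y ∈ W), LinearIndependent K ![x, y] →
      ∃ b : Basis (Fin 2) K W, b 0 = ⟨x, hx⟩ ∧ b 1 = ⟨y, hy⟩ := by
    intro x y hx hy hxy
    have h1 : LinearIndependent K ![(⟨x, hx⟩ : W), ⟨y, hy⟩] := by
      refine LinearIndependent.of_comp W.subtype ?_
      convert hxy using 1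
      funext i
      fin_cases i <;> rfl
    refine ⟨basisOfLinearIndependentOfCardEqFinrank h1 (by rw [Fintype.card_fin, hW]), ?_, ?_⟩
    · rw [coe_basisOfLinearIndependentOfCardEqFinrank]; rfl
    · rw [coe_basisOfLinearIndependentOfCardEqFinrank]; rfl
  obtain ⟨b, hb0, hb1⟩ := key hu hv h
  obtain ⟨b', hb0', hb1'⟩ := key hu' hv' h'
  refine ⟨b.equiv b' (Equiv.refl _), ?_, ?_⟩
  · rw [← hb0, Basis.equiv_apply, Equiv.refl_apply, hb0']
  · rw [← hb1, Basis.equiv_apply, Equiv.refl_apply, hb1']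

/-- a second vector of a plane -/
theorem exists_indep {W : Submodule K V} (hW : finrank K W = 2) {u : V} (hu : u ≠ 0) :
    ∃ v ∈ W, LinearIndependent K ![u, v] := by
  have h1 : ¬ W ≤ (K ∙ u) := by
    intro hle
    have : FiniteDimensional K W := FiniteDimensional.of_finrank_pos (by omega)
    have h2 := Submodule.finrank_mono hle
    rw [finrank_span_singleton hu, hW] at h2
    omega
  obtain ⟨v, hv, hv'⟩ := SetLike.not_le_iff_exists.1 h1
  refine ⟨v, hv, (LinearIndependent.pair_iff' hu).2 fun a ha => hv' ?_⟩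
  rw [← ha]
  exact Submodule.smul_mem _ _ (Submodule.mem_span_singleton_self u)

end lines

section par

variable {K : Type u} [Field K] {V : Type v} [AddCommGroup V] [Module K V] {F : CForm K V}

/-- the action on the subspaces -/
@[reducible] def act (F : CForm K V) : MulAction F.iso (Submodule K V) where
  smul g W := W.map (F.iso.subtype g : V →ₗ[K] V)
  one_smul W := Submodule.map_id W
  mul_smul g h W := by
    change W.map (F.iso.subtype (g * h) : V →ₗ[K] V) =
      (W.map (F.iso.subtype h : V →ₗ[K] V)).map (F.iso.subtype g : V →ₗ[K] V)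
    rw [← Submodule.map_comp]
    rfl

theorem map_span (g : F.iso) (u : V) : (K ∙ u).map (F.iso.subtype g : V →ₗ[K] V) = K ∙ ((g : V ≃ₗ[K] V) u) := by
  rw [Submodule.map_span, Set.image_singleton]
  rfl

/-- **the orders** -/
theorem card_par [Finite K] [FiniteDimensional K V] [Finite F.iso] {W : Submodule K V} (hW2 : finrank K W = 2)
    (hL : ∀ a : W ≃ₗ[K] W, ∃ g : F.iso, ∀ w : W, (g : V ≃ₗ[K] V) w = a w) {u : V} (hu : u ∈ W) (hu0 : u ≠ 0) :
    Nat.card (stabW F.iso.subtype W) =
      (Nat.card K + 1) * Nat.card (stabW F.iso.subtype W ⊓ stabW F.iso.subtype (K ∙ u) : Subgroup F.iso) ∧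
    ∀ x ∈ stabW F.iso.subtype W, x ∉ stabW F.iso.subtype W ⊓ stabW F.iso.subtype (K ∙ u) →
      Nat.card K * Nat.card (dsub (stabW F.iso.subtype W ⊓ stabW F.iso.subtype (K ∙ u)) x) =
        Nat.card (stabW F.iso.subtype W ⊓ stabW F.iso.subtype (K ∙ u) : Subgroup F.iso) := by
  let _ := act F
  have hL' : ∀ a : W ≃ₗ[K] W, ∃ g ∈ stabW F.iso.subtype W, ∀ w : W, (g : V ≃ₗ[K] V) w = a w := by
    intro a
    obtain ⟨g, hg⟩ := hL a
    refine ⟨g, map_eq_of_le F.iso.subtype fun w hw => ?_, hg⟩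
    change (g : V ≃ₗ[K] V) w ∈ W
    rw [hg ⟨w, hw⟩]
    exact (a ⟨w, hw⟩).2
  have key : ∀ u' ∈ W, u' ≠ 0 → ∃ v ∈ W, LinearIndependent K ![u', v] := fun u' _ h => exists_indep hW2 h
  refine card_of_trans (stabW F.iso.subtype W) _ {m : Submodule K V | m ≤ W ∧ finrank K m = 1} (K ∙ u)
    (card_lines hW2) ⟨(Submodule.span_singleton_le_iff_mem _ _).2 hu, finrank_span_singleton hu0⟩ ?_ ?_ ?_ ?_
  · rintro g hg m ⟨hm, hm'⟩
    refine ⟨?_, ?_⟩
    · change m.map (F.iso.subtype g : V →ₗ[K] V) ≤ W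
      rw [mem_stabW] at hg
      rw [← hg]
      exact Submodule.map_mono hm
    · rw [← hm']
      exact LinearEquiv.finrank_map_eq (F.iso.subtype g) m
  · intro g
    exact Iff.rfl
  · rintro m ⟨hm, hm'⟩
    obtain ⟨u', hu', hu0'⟩ := (Submodule.ne_bot_iff m).1 (by
      rintro rfl
      rw [finrank_bot] at hm'
      omega)
    have hmu : m = K ∙ u' := by
      symm
      have : FiniteDimensional K m := FiniteDimensional.of_finrank_pos (by omega)
      apply Submodule.eq_of_le_of_finrank_eq ((Submodule.span_singleton_le_iff_mem _ _).2 hu')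
      rw [finrank_span_singleton hu0', hm']
    obtain ⟨v, hv, h1⟩ := key u hu hu0
    obtain ⟨v', hv', h2⟩ := key u' (hm hu') hu0'
    obtain ⟨a, ha, -⟩ := exists_aut hW2 hu hv (hm hu') hv' h1 h2
    obtain ⟨g, hg, hg'⟩ := hL' a
    refine ⟨g, hg, ?_⟩
    change (K ∙ u).map (F.iso.subtype g : V →ₗ[K] V) = m
    rw [map_span, hg' ⟨u, hu⟩, ha, hmu]
  · rintro m ⟨hm, hm1⟩ m' ⟨hm', hm1'⟩ hne hne'
    have key2 : ∀ m : Submodule K V, m ≤ W → finrank K m = 1 → m ≠ K ∙ u →
        ∃ v ∈ W, m = K ∙ v ∧ LinearIndependent K ![u, v] := by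
      intro m hm hm1 hne
      obtain ⟨v, hv, hv0⟩ := (Submodule.ne_bot_iff m).1 (by
        rintro rfl
        rw [finrank_bot] at hm1
        omega)
      have hmu : m = K ∙ v := by
        symm
        have : FiniteDimensional K m := FiniteDimensional.of_finrank_pos (by omega)
        apply Submodule.eq_of_le_of_finrank_eq ((Submodule.span_singleton_le_iff_mem _ _).2 hv)
        rw [finrank_span_singleton hv0, hm1]
      refine ⟨v, hm hv, hmu, (LinearIndependent.pair_iff' hu0).2 fun a ha => hne ?_⟩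
      have ha0 : a ≠ 0 := by
        rintro rfl
        rw [zero_smul] at ha
        exact hv0 ha.symm
      rw [hmu, ← ha]
      exact Submodule.span_singleton_smul_eq (IsUnit.mk0 a ha0) u
    obtain ⟨v, hv, rfl, h1⟩ := key2 m hm hm1 hne
    obtain ⟨v', hv', rfl, h2⟩ := key2 m' hm' hm1' hne'
    obtain ⟨a, ha, ha'⟩ := exists_aut hW2 hu hv hu hv' h1 h2
    obtain ⟨g, hg, hg'⟩ := hL' a
    refine ⟨g, ⟨hg, ?_⟩, ?_⟩
    · change g ∈ stabW F.iso.subtype (K ∙ u)
      rw [mem_stabW, map_span, hg' ⟨u, hu⟩, ha]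
    · change (K ∙ v).map (F.iso.subtype g : V →ₗ[K] V) = K ∙ v'
      rw [map_span, hg' ⟨v, hv⟩, ha']

theorem mem_of_smul [FiniteDimensional K V] {z : F.iso} {a : K} (hz : ∀ v, (z : V ≃ₗ[K] V) v = a • v)
    (W : Submodule K V) : z ∈ stabW F.iso.subtype W := by
  refine map_eq_of_le F.iso.subtype fun w hw => ?_
  change (z : V ≃ₗ[K] V) w ∈ W
  rw [hz]
  exact W.smul_mem _ hw

/-- **The characters of the degrees `|G : P|` and `q |G : P|`.** -/
theorem sieg_chars [Finite K] [FiniteDimensional K V] [Fintype F.iso] (hσ : ∀ a, F.σ a = a) (hS : ∀ v, F.Sing v)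
    {W : Submodule K V} (hW : F.TS W) (hWp : F.perp W = W) (hW2 : finrank K W = 2)
    (hL : ∀ a : W ≃ₗ[K] W, ∃ g : F.iso, ∀ w : W, (g : V ≃ₗ[K] V) w = a w)
    (hZ : ∀ z ∈ Subgroup.center F.iso, ∃ a : K, a ^ 2 = 1 ∧ ∀ v, (z : V ≃ₗ[K] V) v = a • v)
    (c : Kˣ →* ℂˣ) {b : Kˣ} (hb : c b * c b ≠ 1) :
    ∃ χ₁ χ₂ : F.iso → ℂ, IsIrrCharacter F.iso χ₁ ∧ IsIrrCharacter F.iso χ₂ ∧
      χ₁ 1 = ((stabW F.iso.subtype W).index : ℂ) ∧
      χ₂ 1 = (((stabW F.iso.subtype W).index * Nat.card K : ℕ) : ℂ) ∧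
      (∀ z ∈ Subgroup.center F.iso, χ₁ z = χ₁ 1) ∧ ∀ z ∈ Subgroup.center F.iso, χ₂ z = χ₂ 1 := by
  classical
  obtain ⟨u, hu, hu0⟩ := (Submodule.ne_bot_iff W).1 (by
      rintro rfl
      rw [finrank_bot] at hW2
      omega)
  obtain ⟨h3, h2⟩ := card_par hW2 hL hu hu0
  refine exists_two (stabW F.iso.subtype W ⊓ stabW F.iso.subtype (K ∙ u)) (stabW F.iso.subtype W) inf_le_left
    (c.comp (detHom F W)) (fun x hx => ?_) Nat.card_pos h2 h3 (Subgroup.center F.iso) le_rfl (fun z hz => ?_)
    (fun z hz => ?_)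
  · obtain ⟨t, m1, m2, m3, m4, d1, d3, -, -⟩ := sep_one hσ hS hW hWp hu hu0 hx b
    refine ⟨⟨t, m1, m2⟩, ⟨m3, m4⟩, ?_⟩
    rw [MonoidHom.comp_apply, MonoidHom.comp_apply]
    change c (detHom F W ⟨t, m1⟩) ≠ c (detHom F W ⟨_, m3⟩)
    rw [d1, d3, map_inv]
    intro h
    apply hb
    nth_rw 1 [h]
    exact inv_mul_cancel _
  · obtain ⟨a, -, ha⟩ := hZ z hz
    exact ⟨mem_of_smul ha _, mem_of_smul ha _⟩
  · obtain ⟨a, ha1, ha⟩ := hZ z hz
    rw [MonoidHom.comp_apply]
    have h4 : detHom F W ⟨z, mem_of_smul ha W⟩ = 1 := by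
      apply Units.ext
      rw [detHom_smul F _ fun v _ => ha v, hW2, ha1, Units.val_one]
    change c (detHom F W ⟨z, mem_of_smul ha W⟩) = 1
    rw [h4, map_one]

/-- **The characters of degree `(q + 1) |G : P|`**, if the centre is trivial. -/
theorem borel_char [Finite K] [FiniteDimensional K V] [Fintype F.iso] (hσ : ∀ a, F.σ a = a) (hS : ∀ v, F.Sing v)
    {W : Submodule K V} (hW : F.TS W) (hWp : F.perp W = W) (hW2 : finrank K W = 2)
    (hL : ∀ a : W ≃ₗ[K] W, ∃ g : F.iso, ∀ w : W, (g : V ≃ₗ[K] V) w = a w)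
    (hZ : ∀ z ∈ Subgroup.center F.iso, z = 1)
    (c d : Kˣ →* ℂˣ) {b : Kˣ} (h1 : d b ≠ 1) (h2 : c b * c b ≠ 1) (h3 : d b * c b * c b ≠ 1)
    (h4 : (d b * c b) * (d b * c b) ≠ 1) :
    ∃ χ : F.iso → ℂ, IsIrrCharacter F.iso χ ∧
      χ 1 = (((Nat.card K + 1) * (stabW F.iso.subtype W).index : ℕ) : ℂ) ∧
      ∀ z ∈ Subgroup.center F.iso, χ z = χ 1 := by
  classical
  obtain ⟨u, hu, hu0⟩ := (Submodule.ne_bot_iff W).1 (by
      rintro rfl
      rw [finrank_bot] at hW2
      omega)
  obtain ⟨h5, -⟩ := card_par hW2 hL hu hu0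
  obtain ⟨B, hB⟩ : ∃ B, B = stabW F.iso.subtype W ⊓ stabW F.iso.subtype (K ∙ u) := ⟨_, rfl⟩
  have hB1 : B ≤ stabW F.iso.subtype W := hB ▸ inf_le_left
  have hB2 : B ≤ stabW F.iso.subtype (K ∙ u) := hB ▸ inf_le_right
  have hmem : ∀ {t}, t ∈ stabW F.iso.subtype W → t ∈ stabW F.iso.subtype (K ∙ u) → t ∈ B := fun h h' => hB ▸ ⟨h, h'⟩
  rw [← hB] at h5
  let f : B →* ℂˣ := (d.comp ((detHom F (K ∙ u)).comp (Subgroup.inclusion hB2))) *
    (c.comp ((detHom F W).comp (Subgroup.inclusion hB1)))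
  have hf : ∀ (t : F.iso) (ht1 : t ∈ stabW F.iso.subtype W) (ht2 : t ∈ stabW F.iso.subtype (K ∙ u)),
      f ⟨t, hmem ht1 ht2⟩ = d (detHom F (K ∙ u) ⟨t, ht2⟩) * c (detHom F W ⟨t, ht1⟩) := fun _ _ _ => rfl
  have e0 : ∀ a : ℂˣ, a = a⁻¹ → a * a = 1 := by
    intro a ha
    nth_rw 1 [ha]
    exact inv_mul_cancel _
  have e1 : ∀ a a' : ℂˣ, a = a'⁻¹ → a * a' = 1 := by
    rintro a a' rfl
    exact inv_mul_cancel _
  have key : ∀ x : F.iso, x ∉ B → ∃ (t : B) (hx : x⁻¹ * t * x ∈ B), f t ≠ f ⟨x⁻¹ * t * x, hx⟩ := by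
    intro x hx
    by_cases hxW : x ∈ stabW F.iso.subtype W
    · have hxu : x ∉ stabW F.iso.subtype (K ∙ u) := fun h => hx (hmem hxW h)
      obtain ⟨t, m1, m2, m3, m4, d1, d3, d2, d4⟩ := sep_two hσ hS hW hu hu0 hxW hxu b
      refine ⟨⟨t, hmem m1 m2⟩, hmem m3 m4, ?_⟩
      rw [hf t m1 m2]
      refine ne_of_ne_of_eq ?_ (hf _ m3 m4).symm
      rw [d1, d2, d3, d4, map_one, one_mul]
      intro h
      exact h1 (mul_eq_right.1 h)
    · obtain ⟨t, m1, m2, m3, m4, d1, d3, d2, d4⟩ := sep_one hσ hS hW hWp hu hu0 hxW b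
      refine ⟨⟨t, hmem m1 m2⟩, hmem m3 m4, ?_⟩
      rw [hf t m1 m2]
      refine ne_of_ne_of_eq ?_ (hf _ m3 m4).symm
      rw [d1, d3, map_inv]
      rcases d2 with d2 | d2 <;> rcases d4 with d4 | d4 <;> rw [d2, d4]
      · rw [map_inv, ← mul_inv]
        intro h
        exact h4 (e0 _ h)
      · rw [map_one, one_mul]
        intro h
        exact h3 (e1 _ _ h)
      · rw [map_one, one_mul, map_inv, ← mul_inv]
        intro h
        apply h3
        rw [mul_comm (d b * c b)]
        exact e1 _ _ h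
      · rw [map_one, one_mul, one_mul]
        intro h
        exact h2 (e0 _ h)
  obtain ⟨χ, hχ, hχ1, -⟩ := exists_one B f key ⊥ bot_le bot_le (by
    intro z hz
    have hz1 : z = 1 := Subgroup.mem_bot.1 hz
    subst hz1
    exact map_one f)
  refine ⟨χ, hχ, ?_, fun z hz => by rw [hZ z hz]⟩
  rw [hχ1]
  have h6 := Subgroup.relIndex_mul_index hB1
  have h7 : B.relIndex (stabW F.iso.subtype W) = Nat.card K + 1 := by
    have h8 := Subgroup.card_mul_index (B.subgroupOf (stabW F.iso.subtype W))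
    rw [h5, Nat.card_congr (Subgroup.subgroupOfEquivOfLe hB1).toEquiv, mul_comm (Nat.card K + 1)] at h8
    exact Nat.eq_of_mul_eq_mul_left Nat.card_pos h8
  rw [← h6, h7]

end par

end Cfsg.Agent.H272.Eight
end

-- part: H272/Eight/Sp
section
/-!
# Degrees of `PSp₄(q)` (helper272, for S4899)
-/

set_option autoImplicit false
set_option linter.unusedSectionVars false

open Cfsg

namespace Cfsg.Agent.H272.Eight

open Module Cfsg.Agent.H477.HC Cfsg.Agent.H53.HC Cfsg.Agent.Characters

universe u v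

/-- membership in the set of the degrees -/
theorem mem_cd {S : Type u} [Group S] [Finite S] {χ : S → ℂ} (hχ : IsIrrCharacter S χ) {d : ℕ} (h : χ 1 = (d : ℂ)) :
    d ∈ charDegrees S :=
  ⟨⟨χ, hχ⟩, Blocks.Basic.charDegree_of_eq h⟩

section

variable (K : Type u) [Field K] [Finite K]

theorem sing_all {m : ℕ} (v : Fin m ⊕ Fin m → K) : (CForm.spF K m).Sing v :=
  ⟨rfl, (CForm.spF K m).alt v rfl⟩

/-- a maximal totally singular subspace is its own orthogonal -/
theorem perp_eq {m : ℕ} {W : Submodule K (Fin m ⊕ Fin m → K)} (hW : W ∈ (CForm.spF K m).Om m) :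
    (CForm.spF K m).perp W = W := by
  classical
  symm
  apply Submodule.eq_of_le_of_finrank_eq hW.1.le_perp
  let b := finBasisOfFinrankEq K W hW.2
  have h1 : LinearIndependent K (fun i => (b i : Fin m ⊕ Fin m → K)) :=
    b.linearIndependent.map' W.subtype (Submodule.ker_subtype _)
  have h2 := Cfsg.Agent.H362.Dl.finrank_perp_span (CForm.spF K m) h1
  have h3 : Submodule.span K (Set.range fun i => (b i : Fin m ⊕ Fin m → K)) = W := by
    have h4 : (Set.range fun i => (b i : Fin m ⊕ Fin m → K)) = W.subtype '' Set.range b := by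
      rw [← Set.range_comp]
      rfl
    rw [h4, ← Submodule.map_span, b.span_eq, Submodule.map_subtype_top]
  rw [h3, finrank_fintype_fun_eq_card, Fintype.card_sum, Fintype.card_fin] at h2
  rw [hW.2]
  omega

/-- the Levi subgroup -/
theorem exists_levi' {V : Type v} [AddCommGroup V] [Module K V] [FiniteDimensional K V] (F : CForm K V) {k : ℕ}
    {W : Submodule K V} (hW : W ∈ F.Om k) (a : W ≃ₗ[K] W) : ∃ g : F.iso, ∀ w : W, (g : V ≃ₗ[K] V) w = a w := by
  obtain ⟨W', hW', h0⟩ := F.exists_opp hW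
  have h0' := CForm.opp_symm (F := F) hW.2 hW'.2 h0
  obtain ⟨g, hg, -⟩ := F.exists_levi hW.1 hW'.1 (fun w hw hw' => by
      have : w ∈ W ⊓ F.perp W' := ⟨hw, hw'⟩
      rw [h0] at this
      exact (Submodule.mem_bot K).1 this)
    (fun w hw hw' => by
      have : w ∈ W' ⊓ F.perp W := ⟨hw, fun w' hw'' => F.B_eq_zero (hw' w' hw'')⟩
      rw [h0'] at this
      exact (Submodule.mem_bot K).1 this) a
  exact ⟨g, hg⟩

/-- the index of a parabolic subgroup -/
theorem index_stab {V : Type v} [AddCommGroup V] [Module K V] [FiniteDimensional K V] (F : CForm K V) {k : ℕ}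
    {W : Submodule K V} (hW : W ∈ F.Om k) : (stabW F.iso.subtype W).index = Nat.card (F.Om k) := by
  let _ := act F
  have h1 : stabW F.iso.subtype W = MulAction.stabilizer F.iso W := by
    ext g
    rw [mem_stabW, MulAction.mem_stabilizer_iff]
    rfl
  have h2 : MulAction.orbit F.iso W = F.Om k := by
    ext W'
    constructor
    · rintro ⟨g, rfl⟩
      exact F.Om_map g W hW
    · intro hW'
      obtain ⟨g, hg⟩ := F.trans_Om hW hW'
      exact ⟨g, hg⟩
  rw [h1, MulAction.index_stabilizer, h2, Nat.card_coe_set_eq]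

theorem center_sp {m : ℕ} {z : (CForm.spF K m).iso} (hz : z ∈ Subgroup.center (CForm.spF K m).iso) :
    ∃ a : K, a ^ 2 = 1 ∧ ∀ v, (z : (Fin m ⊕ Fin m → K) ≃ₗ[K] (Fin m ⊕ Fin m → K)) v = a • v := by
  obtain ⟨A, rfl⟩ := (isoSp m K).surjective z
  have hA : A ∈ Subgroup.center (Matrix.symplecticGroup (Fin m) K) := by
    rw [Subgroup.mem_center_iff] at hz ⊢
    intro g
    apply (isoSp m K).injective
    rw [map_mul, map_mul]
    exact hz _
  rcases Cfsg.Agent.ClassicalGeometry.SympInvolutions.center_eq hA with h | h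
  · refine ⟨1, one_pow 2, fun v => ?_⟩
    rw [isoSp_apply, h, Matrix.one_mulVec, one_smul]
  · refine ⟨-1, neg_one_sq, fun v => ?_⟩
    rw [isoSp_apply, h, Matrix.neg_mulVec, Matrix.one_mulVec, neg_one_smul]

/-- from the isometry group to `PSp` -/
theorem psp_of_iso {m : ℕ} {χ : (CForm.spF K m).iso → ℂ} (hχ : IsIrrCharacter _ χ)
    (hz : ∀ z ∈ Subgroup.center (CForm.spF K m).iso, χ z = χ 1) {d : ℕ} (hd : χ 1 = (d : ℂ)) :
    d ∈ charDegrees (PSp m K) := by
  have hfin : Finite (Matrix.symplecticGroup (Fin m) K) := inferInstance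
  have hfin' : Finite (PSp m K) := by unfold PSp; infer_instance
  have hχ' : IsIrrCharacter _ (χ ∘ (isoSp m K).toMonoidHom) :=
    Core.isIrr_comp (isoSp m K).toMonoidHom (isoSp m K).surjective hχ
  obtain ⟨η, hη, hη'⟩ := exists_quot (Subgroup.center (Matrix.symplecticGroup (Fin m) K)) hχ' (fun z hz' => by
    change χ (isoSp m K z) = χ (isoSp m K 1)
    rw [map_one]
    refine hz _ ?_
    rw [Subgroup.mem_center_iff] at hz' ⊢
    intro g
    obtain ⟨A, rfl⟩ := (isoSp m K).surjective g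
    rw [← map_mul, ← map_mul, hz'])
  refine mem_cd (S := PSp m K) hη ?_
  rw [← hd]
  have := hη' 1
  rw [QuotientGroup.mk_one] at this
  change η 1 = χ 1
  rw [this]
  change χ (isoSp m K 1) = χ 1
  rw [map_one]

theorem card_Om_two : Nat.card ((CForm.spF K 2).Om 2) = (Nat.card K + 1) * (Nat.card K ^ 2 + 1) := by
  have hq : 1 < Nat.card K := Finite.one_lt_card
  have h1 := Cfsg.Agent.H362.Dl.card_Om_sp K (m := 2) (k := 2) le_rfl
  obtain ⟨N, hN⟩ : ∃ N, N = Nat.card ((CForm.spF K 2).Om 2) := ⟨_, rfl⟩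
  rw [← hN] at h1 ⊢
  obtain ⟨c, hc⟩ : ∃ c, Nat.card K = c + 2 := ⟨Nat.card K - 2, by omega⟩
  rw [hc] at h1 ⊢
  rw [Finset.prod_range_succ, Finset.prod_range_one, Finset.prod_range_succ, Finset.prod_range_one] at h1
  have e1 : (c + 2) ^ (0 + 1) - 1 = c + 1 := by rw [zero_add, pow_one]; omega
  have e2 : (c + 2) ^ (1 + 1) - 1 = (c + 1) * (c + 3) := by
    have : (c + 2) ^ (1 + 1) = (c + 1) * (c + 3) + 1 := by ring
    omega
  have e3 : (c + 2) ^ (2 * (2 - 0)) - 1 = (c + 1) * (c + 3) * ((c + 2) ^ 2 + 1) := by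
    have : (c + 2) ^ (2 * (2 - 0)) = (c + 1) * (c + 3) * ((c + 2) ^ 2 + 1) + 1 := by
      norm_num
      ring
    omega
  rw [e1, e2, e3] at h1
  have h5 : 0 < (c + 1) * ((c + 1) * (c + 3)) := by positivity
  apply Nat.eq_of_mul_eq_mul_right h5
  rw [h1]
  ring

end

end Cfsg.Agent.H272.Eight
end

-- part: H272/Eight/Degs
section
/-!
# The degrees of `PSp₄(q)` used for S4899 (helper272)

`deg_F`, `deg_G` : `(q + 1)(q² + 1)`, `q (q + 1)(q² + 1)`; `deg_M` : `(q + 1)² (q² + 1)` for `q ≥ 8` even; `deg_E` : `q⁴ - 1`;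
`deg_St` : `q⁴`; `deg_CD` : `q (q + 1)² / 2`, `q (q² + 1) / 2`; `deg_W` : `(q² ± 1) / 2` for `q` odd.
-/

set_option autoImplicit false
set_option linter.unusedSectionVars false

open Cfsg

namespace Cfsg.Agent.H272.Eight

open Module Cfsg.Agent.H477.HC Cfsg.Agent.H53.HC Cfsg.Agent.Characters

universe u

theorem exists_hom (K : Type u) [Field K] [Finite K] :
    ∃ (c : Kˣ →* ℂˣ) (b : Kˣ), orderOf (c b) = Nat.card K - 1 := by
  classical
  obtain ⟨b, hb⟩ := IsCyclic.exists_generator (α := Kˣ)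
  have hn : Nat.card Kˣ = Nat.card K - 1 := Nat.card_units K
  have hn0 : Nat.card Kˣ ≠ 0 := Nat.card_pos.ne'
  have hob : orderOf b = Nat.card Kˣ := by
    rw [← Nat.card_zpowers]
    exact Nat.card_congr (Equiv.subtypeUnivEquiv hb)
  obtain ⟨ζ, hζ⟩ : ∃ ζ : ℂˣ, orderOf ζ = Nat.card Kˣ := by
    have h1 := Complex.isPrimitiveRoot_exp (Nat.card Kˣ) hn0
    exact ⟨_, (h1.isUnit_unit hn0).eq_orderOf.symm⟩
  refine ⟨monoidHomOfForallMemZpowers (g := b) (g' := ζ) hb (by rw [hob, hζ]), b, ?_⟩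
  rw [monoidHomOfForallMemZpowers_apply_gen, hζ, hn]

section

variable (K : Type u) [Field K] [Finite K]

theorem exists_W : ∃ W : Submodule K (Fin 2 ⊕ Fin 2 → K), W ∈ (CForm.spF K 2).Om 2 := by
  obtain ⟨p, hp⟩ := CharP.exists K
  have hpr : p.Prime := (CharP.char_is_prime_or_zero K p).resolve_right (CharP.char_ne_zero_of_finite K p)
  have : Fact p.Prime := ⟨hpr⟩
  obtain ⟨⟨W₀, hW₀⟩, -⟩ := CForm.spF_frame (K := K) (p := p) 2 0
  exact ⟨W₀, hW₀⟩

theorem deg_FG (hq : 4 ≤ Nat.card K) : (Nat.card K + 1) * (Nat.card K ^ 2 + 1) ∈ charDegrees (PSp 2 K) ∧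
    (Nat.card K + 1) * (Nat.card K ^ 2 + 1) * Nat.card K ∈ charDegrees (PSp 2 K) := by
  classical
  have := finite_iso (CForm.spF K 2)
  let _ := Fintype.ofFinite (CForm.spF K 2).iso
  obtain ⟨W, hW⟩ := exists_W K
  obtain ⟨c, b, hb⟩ := exists_hom K
  have hb2 : c b * c b ≠ 1 := by
    intro h
    have h1 : orderOf (c b) ∣ 2 := orderOf_dvd_of_pow_eq_one (by rw [pow_two, h])
    have h2 := Nat.le_of_dvd (by norm_num) h1
    omega
  obtain ⟨χ₁, χ₂, h1, h2, h3, h4, h5, h6⟩ := sieg_chars (F := CForm.spF K 2) (fun _ => rfl) (sing_all K) hW.1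
    (perp_eq K hW) hW.2 (exists_levi' K _ hW) (fun z hz => center_sp K hz) c hb2
  rw [index_stab K _ hW, card_Om_two] at h3 h4
  exact ⟨psp_of_iso K h1 h5 h3, psp_of_iso K h2 h6 h4⟩

theorem deg_M (hq : 8 ≤ Nat.card K) (h2K : (2 : K) = 0) :
    (Nat.card K + 1) * ((Nat.card K + 1) * (Nat.card K ^ 2 + 1)) ∈ charDegrees (PSp 2 K) := by
  classical
  have := finite_iso (CForm.spF K 2)
  let _ := Fintype.ofFinite (CForm.spF K 2).iso
  obtain ⟨W, hW⟩ := exists_W K
  obtain ⟨c, b, hb⟩ := exists_hom K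
  have hpow : ∀ k, 0 < k → k < 7 → c b ^ k ≠ 1 := by
    intro k hk0 hk h
    have h1 : orderOf (c b) ∣ k := orderOf_dvd_of_pow_eq_one h
    have h2 := Nat.le_of_dvd hk0 h1
    omega
  have hZ : ∀ z ∈ Subgroup.center (CForm.spF K 2).iso, z = 1 := by
    intro z hz
    obtain ⟨a, ha, haz⟩ := center_sp K hz
    have ha1 : a = 1 := by
      have h : (a - 1) ^ 2 = 0 := by linear_combination ha + (1 - a) * h2K
      exact sub_eq_zero.1 (pow_eq_zero_iff two_ne_zero |>.1 h)
    apply Subtype.ext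
    apply LinearEquiv.ext
    intro v
    rw [haz v, ha1, one_smul]
    rfl
  obtain ⟨χ, h1, h2, h3⟩ := borel_char (F := CForm.spF K 2) (fun _ => rfl) (sing_all K) hW.1
    (perp_eq K hW) hW.2 (exists_levi' K _ hW) hZ c c (b := b)
    (by have := hpow 1 (by norm_num) (by norm_num); rwa [pow_one] at this)
    (by have := hpow 2 (by norm_num) (by norm_num); rwa [pow_two] at this)
    (by
      have := hpow 3 (by norm_num) (by norm_num)
      have e : c b ^ 3 = c b * c b * c b := by rw [pow_succ, pow_two]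
      rwa [e] at this)
    (by
      have := hpow 4 (by norm_num) (by norm_num)
      have e : c b ^ 4 = c b * c b * (c b * c b) := by rw [← pow_two (c b), ← pow_add]
      rwa [e] at this)
  rw [index_stab K _ hW, card_Om_two] at h2
  exact psp_of_iso K h1 h3 h2

theorem deg_E (hq : 4 ≤ Nat.card K) : Nat.card K ^ 4 - 1 ∈ charDegrees (PSp 2 K) := by
  have hfin' : Finite (PSp 2 K) := by unfold PSp; infer_instance
  obtain ⟨c, hc⟩ := exists_cus_sq K rfl 2 (by norm_num) (fun h => by omega) (fun h => by omega) (fun _ => le_rfl)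
  obtain ⟨χ, hχ, hχ1⟩ := psp_char (k := 2) (n := 0) hc (one_pow 2) (neg_one_sq)
  refine mem_cd (S := PSp 2 K) hχ ?_
  rw [hχ1]
  have h1 : dg (CForm.spF K 2) 2 = Nat.card K ^ 4 - 1 := by
    unfold dg
    rw [card_Om_two]
    obtain ⟨x, hx⟩ : ∃ x, Nat.card K = x + 1 := ⟨Nat.card K - 1, by omega⟩
    rw [hx, Finset.prod_Ico_succ_top (by norm_num), Finset.Ico_self, Finset.prod_empty, one_mul, pow_one,
      Nat.add_sub_cancel]
    have : (x + 1) ^ 4 = (x + 1 + 1) * ((x + 1) ^ 2 + 1) * x + 1 := by ring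
    omega
  exact congrArg _ h1

theorem deg_CD : (∃ a, 2 * a = Nat.card K * (Nat.card K + 1) ^ 2 ∧ a ∈ charDegrees (PSp 2 K)) ∧
    ∃ a, 2 * a = Nat.card K * (Nat.card K ^ 2 + 1) ∧ a ∈ charDegrees (PSp 2 K) := by
  have hfin' : Finite (PSp 2 K) := by unfold PSp; infer_instance
  let _ := Fintype.ofFinite K
  obtain ⟨χ₁, χ₂, f, g, h1, h2, h3, h4, h5, h6⟩ := Cfsg.Agent.H677.SpRank.exists_chars (F := K) (m := 2) le_rfl
  have hq : 1 < Nat.card K := Finite.one_lt_card
  obtain ⟨x, hx⟩ : ∃ x, Nat.card K = x + 2 := ⟨Nat.card K - 2, by omega⟩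
  rw [hx] at h5 h6 ⊢
  push_cast at h5 h6
  have hx1 : ((x : ℤ) + 1) ≠ 0 := by positivity
  refine ⟨⟨f, ?_, mem_cd h1 h3⟩, ⟨g, ?_, mem_cd h2 h4⟩⟩
  · have h7 : (2 : ℤ) * f = (x + 2) * (x + 2 + 1) ^ 2 := by
      apply mul_left_cancel₀ hx1
      linear_combination h5
    exact_mod_cast h7
  · have h7 : (2 : ℤ) * g = (x + 2) * ((x + 2) ^ 2 + 1) := by
      apply mul_left_cancel₀ hx1
      linear_combination h6
    exact_mod_cast h7

theorem deg_W (h2 : (2 : K) ≠ 0) : ∃ a, (2 * a = Nat.card K ^ 2 + 1 ∨ 2 * a = Nat.card K ^ 2 - 1) ∧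
    a ∈ charDegrees (PSp 2 K) := by
  obtain ⟨χ, hχ⟩ := Cfsg.Agent.H677.WeilIrr.exists_irr_psp (F := K) (n := 2) (by norm_num) h2
  exact ⟨_, hχ, ⟨χ, rfl⟩⟩

theorem card_eq : Nat.gcd 2 (Nat.card K - 1) * Nat.card (PSp 2 K) =
    Nat.card K ^ 4 * ((Nat.card K ^ 2 - 1) * (Nat.card K ^ 4 - 1)) := by
  let _ := Fintype.ofFinite K
  have h0 : Fintype.card K = Nat.card K := Nat.card_eq_fintype_card.symm
  have h1 := S0245.result h0 2
  have h2 := S0246.result h0 2 (by norm_num)
  have h3 := Subgroup.card_mul_index (Subgroup.center ↥(Matrix.symplecticGroup (Fin 2) K))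
  rw [h1, h2, Finset.prod_range_succ, Finset.prod_range_one] at h3
  exact h3

theorem deg_St : Nat.card K ^ 4 ∈ charDegrees (PSp 2 K) := by
  have hfin' : Finite (PSp 2 K) := by unfold PSp; infer_instance
  let _ := Fintype.ofFinite K
  obtain ⟨p, hp⟩ := CharP.exists K
  have hpr : p.Prime := (CharP.char_is_prime_or_zero K p).resolve_right (CharP.char_ne_zero_of_finite K p)
  have : Fact p.Prime := ⟨hpr⟩
  obtain ⟨s, hs⟩ := card_pow K p
  have hq : 1 < Nat.card K := Finite.one_lt_card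
  obtain ⟨χ, hχ, h1⟩ := S2545.result (F := K) p 2 (by norm_num)
  obtain ⟨P⟩ := (inferInstance : Nonempty (Sylow p (PSp 2 K)))
  have h2 := (h1 P).1
  have h3 : Nat.card P = Nat.card K ^ 4 := by
    have hc := card_eq K
    obtain ⟨g, hg⟩ : ∃ g, g = Nat.gcd 2 (Nat.card K - 1) := ⟨_, rfl⟩
    obtain ⟨m, hm⟩ : ∃ m, m = (Nat.card K ^ 2 - 1) * (Nat.card K ^ 4 - 1) := ⟨_, rfl⟩
    have hs0 : s ≠ 0 := by
      rintro rfl
      rw [pow_zero] at hs
      omega
    have hpq : p ∣ Nat.card K := by rw [hs]; exact dvd_pow_self p hs0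
    have hnot : ∀ k, 0 < k → ¬ p ∣ Nat.card K ^ k - 1 := by
      intro k hk h
      have h4 : p ∣ Nat.card K ^ k := Dvd.dvd.trans hpq (dvd_pow_self _ hk.ne')
      have h5 : 0 < Nat.card K ^ k := by positivity
      have h6 : p ∣ 1 := by
        have := (Nat.dvd_sub h4 h)
        rwa [Nat.sub_sub_self h5] at this
      exact hpr.one_lt.ne' (Nat.dvd_one.1 h6)
    have hgp : ¬ p ∣ g := by
      intro h
      have h4 := hnot 1 one_pos
      rw [pow_one] at h4
      exact h4 (h.trans (hg ▸ Nat.gcd_dvd_right 2 _))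
    have hmp : ¬ p ∣ m := by
      rw [hm]
      intro h
      rcases hpr.dvd_mul.1 h with h | h
      · exact hnot 2 (by norm_num) h
      · exact hnot 4 (by norm_num) h
    rw [← hg, ← hm] at hc
    obtain ⟨k, hk⟩ := (IsPGroup.iff_card (p := p)).1 P.isPGroup'
    have h5 := P.not_dvd_index
    have h6 := (P : Subgroup (PSp 2 K)).card_mul_index
    have h6' : Nat.card P * (P : Subgroup (PSp 2 K)).index = Nat.card (PSp 2 K) := h6
    obtain ⟨i, hi⟩ : ∃ i, i = (P : Subgroup (PSp 2 K)).index := ⟨_, rfl⟩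
    rw [← hi] at h5 h6'
    rw [hk] at h6' ⊢
    rw [hs, ← pow_mul] at hc ⊢
    rw [← h6'] at hc
    -- `g * (p ^ k * i) = p ^ (s * 4) * m`
    have c1 : Nat.Coprime (p ^ k) m := Nat.Coprime.pow_left _ ((Nat.Prime.coprime_iff_not_dvd hpr).2 hmp)
    have c2 : Nat.Coprime (p ^ (s * 4)) (g * i) := Nat.Coprime.pow_left _ ((Nat.Prime.coprime_iff_not_dvd hpr).2 (by
      intro h
      rcases hpr.dvd_mul.1 h with h | h
      · exact hgp h
      · exact h5 h))
    apply Nat.dvd_antisymm
    · refine c1.dvd_of_dvd_mul_right ?_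
      rw [← hc]
      exact ⟨g * i, by ring⟩
    · refine c2.dvd_of_dvd_mul_right ?_
      exact ⟨m, by rw [← hc]; ring⟩
  refine mem_cd (S := PSp 2 K) hχ ?_
  rw [h2, h3]

end

end Cfsg.Agent.H272.Eight
end
end

-- part: H688/Eight/Sp62
section
prune_inst 0x211030453122000000000582030060243400019000608001c02402000201c3220002a9000e001400004222001001000000000020000000000a000400000501208082120001000104040001800080000000000000000000000000000000000000000000000
set_option linter.all false
open scoped Cfsg.Agent.FastGrp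

-- part: H362/Eight/SpGen
section
/-!
# S4899: the degrees of `PSp_{2m}(q)`, `m ≥ 3`: general part (helper362)

`dg_mem`, `st_mem`, `mul_mem`, `exists_fg` : members of `charDegrees (PSp m K)`;
`eight_gen` : `1`, the Steinberg degree, the two degrees of the rank 3 action, `dg k`, `a ≤ k ≤ m`, `a + 3 ≤ m`.
`eight_gen_one` : the same with one more degree.
-/

set_option autoImplicit false
set_option linter.unusedSectionVars false

open Cfsg

namespace Cfsg.Agent.H362.Eight

open Cfsg.Agent.H477.HC Module Cfsg.Agent.H53.HC Cfsg.Agent.Characters Cfsg.Agent.H362.Dl Cfsg.Agent.H664.Eight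

universe u v

theorem mem_cd {S : Type u} [Group S] {χ : S → ℂ} {d : ℕ} (hχ : IsIrrCharacter S χ) (h : χ 1 = d) :
    d ∈ charDegrees S :=
  ⟨⟨χ, hχ⟩, H670.PSing.charDegree_eq_of h⟩

theorem exists_of_mem {S : Type u} [Group S] {d : ℕ} (h : d ∈ charDegrees S) :
    ∃ χ : S → ℂ, IsIrrCharacter S χ ∧ χ 1 = d := by
  obtain ⟨χ, rfl⟩ := h
  obtain ⟨n, -, hn⟩ := Core.isIrr_apply_one χ.2
  exact ⟨χ, χ.2, by rw [hn, H670.PSing.charDegree_eq_of hn]⟩

variable (K : Type u) [Field K] [Finite K]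

theorem finite_psp' (m : ℕ) : Finite (PSp m K) := by
  unfold PSp
  infer_instance

theorem dg_mem {m k : ℕ} (hk0 : 0 < k) (hk : k ≤ m) (h2 : Nat.card K = 2 → 3 ≤ k) (h3 : Nat.card K = 3 → 3 ≤ k)
    (h5 : Nat.card K = 5 → 2 ≤ k) : dg (CForm.spF K m) k ∈ charDegrees (PSp m K) := by
  obtain ⟨χ, hχ, h⟩ := exists_char_dg K hk0 hk h2 h3 h5
  exact mem_cd hχ h

/-- a character of `PSp n K` as a character of the isometry group -/
theorem exists_lift {n d : ℕ} (hd : d ∈ charDegrees (PSp n K)) : ∃ ψ₀ : (CForm.spF K n).iso → ℂ,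
    IsIrrCharacter _ ψ₀ ∧ ψ₀ 1 = d ∧ ψ₀ (negOne K n) = ψ₀ 1 := by
  obtain ⟨χ, hχ, hχ1⟩ := exists_of_mem hd
  let π : (CForm.spF K n).iso →* PSp n K :=
    (QuotientGroup.mk' (Subgroup.center (Matrix.symplecticGroup (Fin n) K))).comp (isoSp n K).symm.toMonoidHom
  have hπ : Function.Surjective π := (QuotientGroup.mk'_surjective _).comp (isoSp n K).symm.surjective
  refine ⟨χ ∘ π, Core.isIrr_comp π hπ hχ, by rw [Function.comp_apply, map_one, hχ1], ?_⟩
  rw [Function.comp_apply, Function.comp_apply, map_one]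
  congr 1
  change ((((isoSp n K).symm (negOne K n) : Matrix.symplecticGroup (Fin n) K)) : PSp n K) = 1
  refine (QuotientGroup.eq_one_iff _).2 ?_
  have h1 := negOne_center K n
  rw [Subgroup.mem_center_iff] at h1 ⊢
  intro g
  have h2 := congrArg (isoSp n K).symm (h1 (isoSp n K g))
  rw [map_mul, map_mul, (isoSp n K).symm_apply_apply] at h2
  exact h2

/-- **`c ⊗ ψ`** -/
theorem mul_mem {k n d : ℕ} (hnk : n < k) (h2 : Nat.card K = 2 → 3 ≤ k) (h3 : Nat.card K = 3 → 3 ≤ k)
    (h5 : Nat.card K = 5 → 2 ≤ k) (hd : d ∈ charDegrees (PSp n K)) :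
    dg (CForm.spF K (k + n)) k * d ∈ charDegrees (PSp (k + n) K) := by
  obtain ⟨c, hc⟩ := exists_cus_sq K rfl k (by omega) h2 h3 h5
  obtain ⟨ψ₀, hψ, hψ1, hψ2⟩ := exists_lift K hd
  obtain ⟨χ, hχ, hχ1⟩ := psp_char_hc K hnk hc hψ (fun z' hz' => by
    rw [eq_negOne K hz', hψ2, hc.scal (-1) (neg_one_sq)])
  refine mem_cd hχ ?_
  rw [hχ1, hψ1, Nat.cast_mul]

section char

variable {p : ℕ} [Fact p.Prime] [CharP K p]

theorem dvd_card_char : p ∣ Nat.card K := by
  obtain ⟨s, hs⟩ := card_pow K p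
  have hq : 1 < Nat.card K := Finite.one_lt_card
  rw [hs]
  refine dvd_pow_self p ?_
  rintro rfl
  rw [pow_zero] at hs
  omega

/-- the power of `p` in the order of `PSp` -/
theorem exists_card_psp (m : ℕ) : ∃ N, ¬ p ∣ N ∧ Nat.card (PSp m K) = Nat.card K ^ (m ^ 2) * N := by
  have hp : p.Prime := Fact.out
  have hq : 1 < Nat.card K := Finite.one_lt_card
  have hpq := dvd_card_char K (p := p)
  have h3 := Subgroup.card_eq_card_quotient_mul_card_subgroup (Subgroup.center (Matrix.symplecticGroup (Fin m) K))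
  rw [Nat.card_congr (isoSp m K).toEquiv, card_spF] at h3
  have hN : ¬ p ∣ ∏ i ∈ Finset.range m, (Nat.card K ^ (2 * (i + 1)) - 1) := by
    intro h
    obtain ⟨i, hi, hi'⟩ := (Prime.dvd_finsetProd_iff hp.prime _).1 h
    have h4 : 1 ≤ Nat.card K ^ (2 * (i + 1)) := Nat.one_le_pow _ _ (by omega)
    have h5 : p ∣ Nat.card K ^ (2 * (i + 1)) := hpq.trans (dvd_pow_self _ (by omega))
    have h6 := Nat.dvd_sub h5 hi'
    rw [Nat.sub_sub_self h4] at h6
    exact hp.one_lt.ne' (Nat.dvd_one.1 h6)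
  -- the centre is prime to `p`
  have hZ : Nat.Coprime p (Nat.card (Subgroup.center (Matrix.symplecticGroup (Fin m) K))) := by
    rw [Nat.Prime.coprime_iff_not_dvd hp]
    intro h
    obtain ⟨z, hz⟩ := exists_prime_orderOf_dvd_card' p h
    have hz2 : z * z = 1 := by
      rcases Cfsg.Agent.ClassicalGeometry.SympInvolutions.center_eq z.2 with h4 | h4
      · have : (z : Matrix.symplecticGroup (Fin m) K) = 1 := Subtype.ext h4
        have h5 : z = 1 := Subtype.ext this
        rw [h5, one_mul]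
      · apply Subtype.ext
        apply Subtype.ext
        change ((z : Matrix.symplecticGroup (Fin m) K) : Matrix (Fin m ⊕ Fin m) (Fin m ⊕ Fin m) K) * _ = 1
        rw [h4, neg_mul_neg, one_mul]
    have h5 : orderOf z ∣ 2 := orderOf_dvd_of_pow_eq_one (by rw [pow_two, hz2])
    rw [hz] at h5
    have hp2 : p = 2 := (Nat.prime_dvd_prime_iff_eq hp Nat.prime_two).1 h5
    subst hp2
    have h6 : z = 1 := by
      rcases Cfsg.Agent.ClassicalGeometry.SympInvolutions.center_eq z.2 with h4 | h4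
      · exact Subtype.ext (Subtype.ext h4)
      · apply Subtype.ext
        apply Subtype.ext
        rw [h4]
        have h7 : (2 : K) = 0 := by exact_mod_cast (CharP.cast_eq_zero K 2)
        ext i j
        change -((1 : Matrix (Fin m ⊕ Fin m) (Fin m ⊕ Fin m) K) i j) = (1 : Matrix (Fin m ⊕ Fin m) (Fin m ⊕ Fin m) K) i j
        linear_combination (-(1 : Matrix (Fin m ⊕ Fin m) (Fin m ⊕ Fin m) K) i j) * h7
    rw [h6, orderOf_one] at hz
    omega
  have hZq : Nat.Coprime (Nat.card K ^ (m ^ 2)) (Nat.card (Subgroup.center (Matrix.symplecticGroup (Fin m) K))) := by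
    obtain ⟨s, hs⟩ := card_pow K p
    rw [hs, ← pow_mul]
    exact Nat.Coprime.pow_left _ hZ
  have h7 : Nat.card K ^ (m ^ 2) ∣ Nat.card (PSp m K) := by
    refine hZq.dvd_of_dvd_mul_right ?_
    change _ ∣ Nat.card (Matrix.symplecticGroup (Fin m) K ⧸ Subgroup.center (Matrix.symplecticGroup (Fin m) K)) * _
    rw [← h3]
    exact Dvd.intro _ rfl
  obtain ⟨N, hN'⟩ := h7
  refine ⟨N, fun h => hN ?_, hN'⟩
  have h8 : Nat.card K ^ (m ^ 2) * ∏ i ∈ Finset.range m, (Nat.card K ^ (2 * (i + 1)) - 1) =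
      Nat.card K ^ (m ^ 2) * (N * Nat.card (Subgroup.center (Matrix.symplecticGroup (Fin m) K))) := by
    rw [h3, ← mul_assoc, ← hN']
  have h9 := Nat.eq_of_mul_eq_mul_left (by positivity) h8
  rw [h9]
  exact Dvd.dvd.mul_right h _

end char

/-- **the Steinberg degree** -/
theorem st_mem {m : ℕ} (hm : 1 ≤ m) : Nat.card K ^ (m ^ 2) ∈ charDegrees (PSp m K) := by
  obtain ⟨p, hcp⟩ := CharP.exists K
  have hp : p.Prime := (CharP.char_is_prime_or_zero K p).resolve_right (CharP.char_ne_zero_of_finite K p)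
  have : Fact p.Prime := ⟨hp⟩
  have := finite_psp' K m
  obtain ⟨χ, hχ, h1, -⟩ := H167.StChar.HasSt.of_hasRGD (Nodes.WittInst.hasRGD_PSp (F := K) (p := p) hm)
  obtain ⟨N, hN, hc⟩ := exists_card_psp K (p := p) m
  refine mem_cd hχ ?_
  rw [h1]
  congr 1
  have hq : 1 < Nat.card K := Finite.one_lt_card
  obtain ⟨s, hs⟩ := card_pow K p
  have hN0 : N ≠ 0 := by
    rintro rfl
    exact hN (dvd_zero _)
  rw [hc, Nat.factorization_mul (by positivity) hN0, Finsupp.add_apply, Nat.factorization_eq_zero_of_not_dvd hN, add_zero,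
    hs, ← pow_mul, hp.factorization_pow, Finsupp.single_eq_same]

/-- **the two degrees of the rank 3 action** -/
theorem exists_fg {m : ℕ} (hm : 2 ≤ m) : ∃ f g : ℕ, f ∈ charDegrees (PSp m K) ∧ g ∈ charDegrees (PSp m K) ∧ 1 < g ∧ g < f ∧
    f < dg (CForm.spF K m) 1 ∧
    2 * ((Nat.card K : ℤ) - 1) * f = Nat.card K * ((Nat.card K : ℤ) ^ m - 1) * ((Nat.card K : ℤ) ^ (m - 1) + 1) ∧
    2 * ((Nat.card K : ℤ) - 1) * g = Nat.card K * ((Nat.card K : ℤ) ^ m + 1) * ((Nat.card K : ℤ) ^ (m - 1) - 1) := by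
  have hq : 1 < Nat.card K := Finite.one_lt_card
  let _ := Fintype.ofFinite K
  obtain ⟨χ₁, χ₂, f, g, hχ₁, hχ₂, hf, hg, hf', hg'⟩ := Cfsg.Agent.H677.SpRank.exists_chars (F := K) hm
  refine ⟨f, g, mem_cd hχ₁ hf, mem_cd hχ₂ hg, ?_, ?_, ?_, hf', hg'⟩
  all_goals
    obtain ⟨q, hq'⟩ : ∃ q : ℤ, q = (Nat.card K : ℤ) := ⟨_, rfl⟩
    obtain ⟨P, hP⟩ : ∃ P : ℤ, P = (Nat.card K : ℤ) ^ (m - 1) := ⟨_, rfl⟩
    have hqz : (2 : ℤ) ≤ q := by rw [hq']; exact_mod_cast hq
    have hm0 : (Nat.card K : ℤ) ^ m = q * P := by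
      rw [hP, hq', ← pow_succ']; congr 1; omega
    have hPq : q ≤ P := by
      rw [hP, hq']
      calc (Nat.card K : ℤ) = (Nat.card K : ℤ) ^ 1 := (pow_one _).symm
        _ ≤ (Nat.card K : ℤ) ^ (m - 1) := pow_le_pow_right₀ (by omega) (by omega)
    rw [hm0, ← hP, ← hq'] at hf' hg'
  · have h1 : (1 : ℤ) < g := by
      by_contra h
      push Not at h
      have h2 : 2 * (q - 1) * (g : ℤ) ≤ 2 * (q - 1) * 1 := mul_le_mul_of_nonneg_left h (by omega)
      have h3 : q * (q * P + 1) * (P - 1) ≥ q * (q * P + 1) * 1 := by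
        exact mul_le_mul_of_nonneg_left (by omega) (mul_nonneg (by omega) (by nlinarith only [hq', hPq]))
      nlinarith only [hq, hq', hg', hf', hPq, h, h3]
    exact_mod_cast h1
  · have h1 : (g : ℤ) < f := by
      by_contra h
      push Not at h
      have h2 : 2 * (q - 1) * (f : ℤ) ≤ 2 * (q - 1) * g := mul_le_mul_of_nonneg_left h (by omega)
      rw [hf', hg'] at h2
      have h3 : 0 < q * P * (q - 1) := by
        have : 0 < P := by omega
        have : 0 < q - 1 := by omega
        positivity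
      linarith only [h2, h3]
    exact_mod_cast h1
  · have hd := dg_sp K (m := m) (k := 1) (by omega) one_pos
    rw [pow_one, Finset.prod_range_one, Nat.sub_zero] at hd
    have h4 : 1 ≤ Nat.card K ^ (2 * m) := Nat.one_le_pow _ _ (by omega)
    have hd' : (q - 1) * (dg (CForm.spF K m) 1 : ℤ) = (q * P) ^ 2 - 1 := by
      have h5 := congrArg (Nat.cast : ℕ → ℤ) hd
      rw [Nat.cast_mul, Nat.cast_sub hq.le, Nat.cast_sub h4, Nat.cast_pow, Nat.cast_one, mul_comm 2 m, pow_mul, hm0, ← hq'] at h5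
      exact h5
    have h1 : (f : ℤ) < dg (CForm.spF K m) 1 := by
      by_contra h
      push Not at h
      have h2 : 2 * (q - 1) * (dg (CForm.spF K m) 1 : ℤ) ≤ 2 * (q - 1) * f := mul_le_mul_of_nonneg_left h (by omega)
      rw [hf', mul_assoc 2, hd'] at h2
      have h3 : 0 < (q * P - 1) * (q * P + 2 - q) := by
        have h6 : 0 < q * P - 1 := by nlinarith only [hq, hq', hg', h2]
        have h7 : 0 < q * P + 2 - q := by nlinarith only [hg', h6]
        (clear * - h6 h7; positivity)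
      linarith only [h2, h3]
    exact_mod_cast h1

theorem dg_ne_st {m k : ℕ} (hk0 : 0 < k) (hk : k ≤ m) (d : ℕ) : dg (CForm.spF K m) k * d ≠ Nat.card K ^ (m ^ 2) := by
  intro h
  obtain ⟨p, hcp⟩ := CharP.exists K
  have hp : p.Prime := (CharP.char_is_prime_or_zero K p).resolve_right (CharP.char_ne_zero_of_finite K p)
  have : Fact p.Prime := ⟨hp⟩
  have hq : 1 < Nat.card K := Finite.one_lt_card
  obtain ⟨s, hs⟩ := card_pow K p
  have h1 : dg (CForm.spF K m) k ∣ p ^ (s * m ^ 2) := by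
    rw [pow_mul, ← hs, ← h]
    exact Dvd.intro _ rfl
  obtain ⟨j, -, hj⟩ := (Nat.dvd_prime_pow hp).1 h1
  rcases j with _ | j
  · have h3 : 2 ≤ m ∨ m = 1 := by omega
    have h4 := dg_sp K hk hk0
    rw [hj, pow_zero, mul_one] at h4
    -- the product is at least its first factor
    obtain ⟨l, rfl⟩ : ∃ l, k = l + 1 := ⟨k - 1, by omega⟩
    rw [Finset.prod_range_succ', Nat.sub_zero] at h4
    have h5 : 1 ≤ ∏ i ∈ Finset.range l, (Nat.card K ^ (2 * (m - (i + 1))) - 1) := by
      refine Nat.one_le_iff_ne_zero.2 (Finset.prod_ne_zero_iff.2 fun i hi => ?_)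
      rw [Finset.mem_range] at hi
      have : 1 < Nat.card K ^ (2 * (m - (i + 1))) := Nat.one_lt_pow (by omega) hq
      omega
    have h6 : Nat.card K ^ (l + 1) < Nat.card K ^ (2 * m) := Nat.pow_lt_pow_right hq (by omega)
    have h7 : 1 * (Nat.card K ^ (2 * m) - 1) ≤ (∏ i ∈ Finset.range l, (Nat.card K ^ (2 * (m - (i + 1))) - 1)) * (Nat.card K ^ (2 * m) - 1) :=
      Nat.mul_le_mul_right _ h5
    have h8 : 1 ≤ Nat.card K ^ (l + 1) := Nat.one_le_pow _ _ (by omega)
    rw [← h4, one_mul] at h7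
    clear h h1 hj h4
    generalize Nat.card K ^ (l + 1) = x at *
    generalize Nat.card K ^ (2 * m) = y at *
    omega
  · exact not_dvd_dg K (p := p) hk hk0 (by rw [hj]; exact dvd_pow_self p (Nat.succ_ne_zero j))

/-- **four degrees `≥ dg 1` different from the Steinberg degree** -/
theorem eight_of_four {m : ℕ} (hm : 2 ≤ m) (E : Finset ℕ) (hE : ∀ e ∈ E, e ∈ charDegrees (PSp m K) ∧
    dg (CForm.spF K m) 1 ≤ e ∧ e ≠ Nat.card K ^ (m ^ 2)) (hc : 4 ≤ E.card) : Eight (PSp m K) := by
  classical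
  have := finite_psp' K m
  have hq : 1 < Nat.card K := Finite.one_lt_card
  obtain ⟨f, g, hf, hg, h1, h2, h3, -, -⟩ := exists_fg K hm
  have hS := st_mem K (m := m) (by omega)
  have h4 : dg (CForm.spF K m) 1 < Nat.card K ^ (m ^ 2) := by
    have hd := dg_sp K (m := m) (k := 1) (by omega) one_pos
    rw [pow_one, Finset.prod_range_one, Nat.sub_zero] at hd
    have h5 : 1 ≤ Nat.card K ^ (2 * m) := Nat.one_le_pow _ _ (by omega)
    have h6 : 1 * dg (CForm.spF K m) 1 ≤ (Nat.card K - 1) * dg (CForm.spF K m) 1 := Nat.mul_le_mul_right _ (by omega)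
    have h7 : Nat.card K ^ (2 * m) ≤ Nat.card K ^ (m ^ 2) := Nat.pow_le_pow_right (by omega) (by nlinarith only [hm])
    omega
  refine eight_of_finset (insert 1 (insert g (insert f (insert (Nat.card K ^ (m ^ 2)) E)))) ?_ ?_
  · rw [Finset.card_insert_of_notMem, Finset.card_insert_of_notMem, Finset.card_insert_of_notMem,
      Finset.card_insert_of_notMem]
    · omega
    · intro h; exact (hE _ h).2.2 rfl
    · intro h
      rcases Finset.mem_insert.1 h with h | h
      · omega
      · have := (hE _ h).2.1; omega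
    · intro h
      rcases Finset.mem_insert.1 h with h | h
      · omega
      · rcases Finset.mem_insert.1 h with h | h
        · omega
        · have := (hE _ h).2.1; omega
    · intro h
      rcases Finset.mem_insert.1 h with h | h
      · omega
      · rcases Finset.mem_insert.1 h with h | h
        · omega
        · rcases Finset.mem_insert.1 h with h | h
          · omega
          · have := (hE _ h).2.1; omega
  · intro d hd
    rcases Finset.mem_insert.1 hd with rfl | hd
    · exact _root_.Cfsg.Agent.H664.Eight.one_mem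
    · rcases Finset.mem_insert.1 hd with rfl | hd
      · exact hg
      · rcases Finset.mem_insert.1 hd with rfl | hd
        · exact hf
        · rcases Finset.mem_insert.1 hd with rfl | hd
          · exact hS
          · exact (hE _ hd).1

/-- the set of the degrees `dg k`, `a ≤ k ≤ m` -/
noncomputable def dgs (m a : ℕ) : Finset ℕ := (Finset.Ico a (m + 1)).image (fun k => dg (CForm.spF K m) k)

theorem card_dgs {m a : ℕ} (hm : m = 2 → 3 ≤ Nat.card K) (ha : 0 < a) : (dgs K m a).card = m + 1 - a := by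
  unfold dgs
  rw [Finset.card_image_of_injOn, Nat.card_Ico]
  refine (dg_injOn K hm).mono ?_
  intro x hx
  rw [Finset.coe_Ico, Set.mem_Ico] at hx ⊢
  omega

theorem dg_one_le {m k : ℕ} (hm : m = 2 → 3 ≤ Nat.card K) (hk0 : 0 < k) (hk : k ≤ m) :
    dg (CForm.spF K m) 1 ≤ dg (CForm.spF K m) k := by
  rcases Nat.lt_or_ge 1 k with h | h
  · exact (dg_lt K one_pos h hk hm).le
  · obtain rfl : k = 1 := by omega
    exact le_rfl

theorem mem_dgs {m a : ℕ} (hm : m = 2 → 3 ≤ Nat.card K) (ha : 0 < a) (h2 : Nat.card K = 2 → 3 ≤ a)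
    (h3 : Nat.card K = 3 → 3 ≤ a) (h5 : Nat.card K = 5 → 2 ≤ a) {e : ℕ} (he : e ∈ dgs K m a) :
    e ∈ charDegrees (PSp m K) ∧ dg (CForm.spF K m) 1 ≤ e ∧ e ≠ Nat.card K ^ (m ^ 2) := by
  obtain ⟨k, hk, rfl⟩ := Finset.mem_image.1 he
  rw [Finset.mem_Ico] at hk
  refine ⟨dg_mem K (by omega) (by omega) (fun h => by have := h2 h; omega) (fun h => by have := h3 h; omega)
    (fun h => by have := h5 h; omega), dg_one_le K hm (by omega) (by omega), ?_⟩
  have := dg_ne_st K (m := m) (k := k) (by omega) (by omega) 1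
  rwa [mul_one] at this

/-- `dg (m - 1) * d` is a new degree -/
theorem extra_ne {m k d : ℕ} (hm : 3 ≤ m) (hk0 : 0 < k) (hk : k ≤ m) (hd : 1 < d) :
    dg (CForm.spF K m) (m - 1) * d ≠ dg (CForm.spF K m) k := by
  have hq : 1 < Nat.card K := Finite.one_lt_card
  have hpos := dg_pos K (m := m) (k := m - 1) (by omega) (by omega)
  rcases Nat.lt_or_ge k m with h | h
  · have h1 : dg (CForm.spF K m) k ≤ dg (CForm.spF K m) (m - 1) := by
      rcases Nat.lt_or_ge k (m - 1) with h2 | h2
      · exact (dg_lt K hk0 h2 (by omega) (by omega)).le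
      · obtain rfl : k = m - 1 := by omega
        exact le_rfl
    have h2 : dg (CForm.spF K m) (m - 1) * 1 < dg (CForm.spF K m) (m - 1) * d := Nat.mul_lt_mul_of_pos_left hd hpos
    omega
  · obtain rfl : k = m := by omega
    intro heq
    have h1 := dg_sp K (m := k) (k := k - 1) (by omega) (by omega)
    have h2 := dg_sp K (m := k) (k := k) le_rfl (by omega)
    obtain ⟨l, hl⟩ : ∃ l, k = l + 1 := ⟨k - 1, by omega⟩
    have h3 : ∏ i ∈ Finset.range k, (Nat.card K ^ (2 * (k - i)) - 1) =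
        (∏ i ∈ Finset.range (k - 1), (Nat.card K ^ (2 * (k - i)) - 1)) * (Nat.card K ^ 2 - 1) := by
      rw [show Finset.range k = Finset.range (k - 1 + 1) from by congr 1; omega, Finset.prod_range_succ]
      congr 3
      (clear * - hl; omega)
    rw [h3, ← h1, ← heq] at h2
    have h4 : (Nat.card K ^ k - 1) * d = (Nat.card K ^ (k - 1) - 1) * (Nat.card K ^ 2 - 1) := by
      apply Nat.eq_of_mul_eq_mul_left hpos
      linarith only [h2]
    -- `q^k - 1 = (q - 1) A`, `q^(k-1) - 1 = (q - 1) B`, `A = q B + 1`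
    obtain ⟨q, hq'⟩ : ∃ q, Nat.card K = q := ⟨_, rfl⟩
    rw [hq'] at h4 hq
    have h5 : q - 1 ∣ q ^ (k - 1) - 1 := by
      simpa only [_root_.one_pow] using Nat.sub_dvd_pow_sub_pow q 1 (k - 1)
    obtain ⟨B, hB⟩ := h5
    have h6 : q ^ k - 1 = (q - 1) * (q * B + 1) := by
      have h7 : q ^ k = q * q ^ (k - 1) := by rw [← pow_succ']; congr 1; omega
      have h8 : q ^ (k - 1) = (q - 1) * B + 1 := by
        have : 1 ≤ q ^ (k - 1) := Nat.one_le_pow _ _ (by omega)
        omega
      rw [h7, h8]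
      obtain ⟨t, rfl⟩ : ∃ t, q = t + 1 := ⟨q - 1, by omega⟩
      rw [Nat.add_sub_cancel]
      have : (t + 1) * (t * B + 1) = t * ((t + 1) * B + 1) + 1 := by ring
      rw [this, Nat.add_sub_cancel]
    rw [h6, hB] at h4
    have h7 : (q * B + 1) * d = B * (q ^ 2 - 1) := by
      apply Nat.eq_of_mul_eq_mul_left (show 0 < q - 1 by omega)
      linarith only [h4]
    have h8 : Nat.Coprime (q * B + 1) B := by
      rw [Nat.coprime_mul_right_add_left]
      exact Nat.coprime_one_left B
    have h9 : q * B + 1 ∣ q ^ 2 - 1 := h8.dvd_of_dvd_mul_left ⟨d, h7.symm⟩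
    have h10 : 0 < q ^ 2 - 1 := by
      have : 1 < q ^ 2 := Nat.one_lt_pow two_ne_zero hq
      omega
    have h11 := Nat.le_of_dvd h10 h9
    -- `B ≥ q + 1`
    have h12 : q + 1 ≤ B := by
      have h13 : q ^ 2 ≤ q ^ (k - 1) := Nat.pow_le_pow_right (by omega) (by omega)
      obtain ⟨t, rfl⟩ : ∃ t, q = t + 1 := ⟨q - 1, by omega⟩
      rw [Nat.add_sub_cancel] at hB
      by_contra hcon
      push Not at hcon
      have h14 : t * B ≤ t * (t + 1) := Nat.mul_le_mul_left _ (by omega)
      have h15 : (t + 1) ^ 2 = t * (t + 1) + t + 1 := by ring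
      (clear * - hq hq' hB h10 h13 h14 h15; omega)
    have h13 : q * (q + 1) ≤ q * B := Nat.mul_le_mul_left _ h12
    have h14 : q * (q + 1) = q ^ 2 + q := by ring
    omega

/-- one more degree -/
theorem eight_gen_one {m a d : ℕ} (hm : 3 ≤ m) (ha : 0 < a) (h2 : Nat.card K = 2 → 3 ≤ a) (h3 : Nat.card K = 3 → 3 ≤ a)
    (h5 : Nat.card K = 5 → 2 ≤ a) (ham : a + 2 ≤ m) (hd : 1 < d) (hdm : dg (CForm.spF K m) (m - 1) * d ∈ charDegrees (PSp m K)) :
    Eight (PSp m K) := by
  classical
  have hpos := dg_pos K (m := m) (k := m - 1) (by omega) (by omega)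
  refine eight_of_four K (by omega) (insert (dg (CForm.spF K m) (m - 1) * d) (dgs K m a)) (fun e he => ?_) ?_
  · rcases Finset.mem_insert.1 he with rfl | he
    · refine ⟨hdm, ?_, dg_ne_st K (by omega) (by omega) d⟩
      have h6 := dg_one_le K (m := m) (k := m - 1) (by omega) (by omega) (by omega)
      have h7 : dg (CForm.spF K m) (m - 1) * 1 ≤ dg (CForm.spF K m) (m - 1) * d := Nat.mul_le_mul_left _ hd.le
      omega
    · exact mem_dgs K (by omega) ha h2 h3 h5 he
  · rw [Finset.card_insert_of_notMem, card_dgs K (by omega) ha]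
    · omega
    · intro h
      obtain ⟨k, hk, hk'⟩ := Finset.mem_image.1 h
      rw [Finset.mem_Ico] at hk
      exact extra_ne K hm (by omega) (by omega) hd hk'.symm

end Cfsg.Agent.H362.Eight
end

-- part: H688/Eight/Sp62
section
/-!
# S4899: `Sp₆(2)` has at least 8 character degrees (helper688)

The degrees 1, 7, 21, 27, 35, 405, 512 and one in (35, 245].
-/

set_option autoImplicit false

open scoped ComplexConjugate
open Cfsg Cfsg.Agent.SporRec.TwoSp6.Sp Cfsg.Agent.H689.Sp6 Cfsg.Agent.Characters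

namespace Cfsg.Agent.H688.Eight

open Cfsg.Agent.H664.Eight Cfsg.Agent.H996.Eight.Interval Cfsg.Agent.H362.Eight Cfsg.Agent.H362.Dl
open Cfsg.Agent.H477.HC Cfsg.Agent.H53.HC

universe u

theorem isIrr_ch7 : IsIrrCharacter S ch7 := by
  have : Fintype S := Fintype.ofFinite S
  rw [Core.isIrr_iff_classInner_self isCharacter_ch7]
  obtain ⟨a, ha⟩ := Core.classInner_isNat isCharacter_ch7 isCharacter_ch7
  obtain ⟨b, hb⟩ := Core.classInner_isNat isCharacter_ch7 isCharacter_ch21
  obtain ⟨c, hc⟩ := Core.classInner_isNat isCharacter_ch21 isCharacter_ch7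
  have hd := Core.classInner_irr_self isIrr_ch21
  have ha0 : a ≠ 0 := by
    rintro rfl
    rw [Nat.cast_zero] at ha
    have := congrFun (Core.classInner_self_eq_zero ha) 1
    rw [ch7_one] at this
    norm_num at this
  have hsum : ch28 = ch7 + ch21 := by
    funext g
    simp [ch21]
  have h1 := classInner_ch28
  rw [hsum, Core.classInner_add_left, Core.classInner_add_right, Core.classInner_add_right, ha, hb, hc, hd] at h1
  have h2 : (a + b) + (c + 1) = 2 := by exact_mod_cast h1
  rw [ha]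
  have : a = 1 := by omega
  rw [this, Nat.cast_one]

theorem seven_mem : 7 ∈ charDegrees S := mem_cd isIrr_ch7 (by rw [ch7_one]; norm_num)

theorem twentyone_mem : 21 ∈ charDegrees S := mem_cd isIrr_ch21 (by rw [ch21, ch7_one, ch28_one]; norm_num)

/-- **`Sp₆(2)`** -/
theorem eight_sp62 {F : Type u} [Field F] [Fintype F] (hF : Fintype.card F = 2) : Eight (PSp 3 F) := by
  have hsim : IsSimpleGroup (PSp 3 F) := Cfsg.Agent.S0270.result 3 (by norm_num) (by norm_num)
  have := finite_psp' F 3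
  have hq : Nat.card F = 2 := by rw [Nat.card_eq_fintype_card, hF]
  obtain ⟨e⟩ := StandardComponent.SpTwoAut.exists_equiv hF
  have hcd := charDegrees_congr e
  have h7 : 7 ∈ charDegrees (PSp 3 F) := by rw [hcd]; exact seven_mem
  have h21 : 21 ∈ charDegrees (PSp 3 F) := by rw [hcd]; exact twentyone_mem
  obtain ⟨f, g, hf, hg, -, -, -, hf', hg'⟩ := exists_fg F (m := 3) (by norm_num)
  rw [hq] at hf' hg'
  norm_num at hf' hg'
  have hf35 : f = 35 := by omega
  have hg27 : g = 27 := by omega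
  subst hf35 hg27
  have h405 : 405 ∈ charDegrees (PSp 3 F) := by
    have h1 := dg_mem F (m := 3) (k := 3) (by norm_num) le_rfl (fun _ => le_rfl) (fun _ => le_rfl) (fun _ => by norm_num)
    have h2 := dg_sp F (m := 3) (k := 3) le_rfl (by norm_num)
    rw [hq, Finset.prod_range_succ, Finset.prod_range_succ, Finset.prod_range_one] at h2
    norm_num at h2
    have h3 : dg (CForm.spF F 3) 3 = 405 := by omega
    rwa [h3] at h1
  have h512 : 512 ∈ charDegrees (PSp 3 F) := by
    have h1 := st_mem F (m := 3) (by norm_num)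
    rw [hq] at h1
    norm_num at h1
    exact h1
  obtain ⟨x, hx, hx1, hx2⟩ := _root_.Cfsg.Agent.H996.Eight.Interval.exists_between (Small.of_mem h7 (by norm_num)) (X := 35) (by norm_num) h405 (by norm_num)
  refine eight_of_finset {1, 7, 21, 27, 35, x, 405, 512} ?_ ?_
  · rw [Finset.card_insert_of_notMem, Finset.card_insert_of_notMem, Finset.card_insert_of_notMem,
      Finset.card_insert_of_notMem, Finset.card_insert_of_notMem, Finset.card_insert_of_notMem,
      Finset.card_insert_of_notMem, Finset.card_singleton]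
    all_goals
      simp only [Finset.mem_insert, Finset.mem_singleton]
      omega
  · intro d hd
    simp only [Finset.mem_insert, Finset.mem_singleton] at hd
    rcases hd with rfl | rfl | rfl | rfl | rfl | rfl | rfl | rfl
    · exact _root_.Cfsg.Agent.H664.Eight.one_mem
    · exact h7
    · exact h21
    · exact hg
    · exact hf
    · exact hx
    · exact h405
    · exact h512

end Cfsg.Agent.H688.Eight
end
end

-- part: H334/DS/DegsLeech
section
set_option linter.all false
open scoped Cfsg.Agent.FastGrp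

-- part: H334/DS/Degs
section
/-!
# Degrees of J2, Suz, Fi22, Fi24' from rank 3 actions (helper334)

* `j2` : 36, 63;  `suz` : 780, 1001;  `fi22` : 429, 3080;  `fi24` : a nontrivial irreducible degree at most 306935.
-/

set_option autoImplicit false

namespace Cfsg.Agent.H334.DS

open Cfsg Cfsg.Agent.Characters.Core Cfsg.Agent.H665.NoPQ

universe u

/-- `K` has an irreducible character of degree `m`. -/
def HasDeg (K : Type*) [Group K] (m : ℕ) : Prop := ∃ ψ : K → ℂ, IsIrrCharacter K ψ ∧ ψ 1 = m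

theorem HasDeg.mulEquiv {G H : Type*} [Group G] [Group H] {m : ℕ} (e : G ≃* H) (h : HasDeg H m) : HasDeg G m := by
  obtain ⟨ψ, h1, h2⟩ := h
  exact ⟨ψ ∘ e, isIrr_comp e.toMonoidHom e.surjective h1, by rw [Function.comp_apply, map_one, h2]⟩

theorem HasDeg.of_irr {G : Type*} [Group G] {m : ℕ} (h : ∃ χ : IrrCharacter G, (χ : G → ℂ) 1 = m) : HasDeg G m := by
  obtain ⟨χ, hχ⟩ := h
  exact ⟨χ, χ.2, hχ⟩

/-! ### J2 -/

theorem chk_j2 : chk 604800 36 63 36 63 = true := by decide +kernel

theorem j2 {K : Type u} [Group K] (h : Spor.IsoJ2 K) : HasDeg K 36 ∧ HasDeg K 63 := by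
  have hc : Nat.card Spor.J2 = 604800 := NotCT.Orders.j2 (K := Spor.J2) ⟨MulEquiv.refl _⟩
  have : Finite Spor.J2 := Nat.finite_of_card_ne_zero (by rw [hc]; norm_num)
  obtain ⟨e⟩ := h
  obtain ⟨H, h1, -, h2⟩ := Cfsg.Agent.S1624.result
  obtain ⟨h3, h4⟩ := degs_of_index H (k := 36) (l := 63) (m₁ := 36) (m₂ := 63) h1 h2 (by norm_num) (by norm_num)
    (by norm_num) hc (by norm_num) chk_j2
  exact ⟨(HasDeg.of_irr h3).mulEquiv e, (HasDeg.of_irr h4).mulEquiv e⟩

/-! ### Suz -/

theorem chk_suz : chk 448345497600 416 1365 780 1001 = true := by decide +kernel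

theorem suz {K : Type u} [Group K] (h : Spor.IsoSuz K) : HasDeg K 780 ∧ HasDeg K 1001 := by
  have hc : Nat.card Spor.Suz = 448345497600 := NotCT.Orders.suz (K := Spor.Suz) ⟨MulEquiv.refl _⟩
  have : Finite Spor.Suz := Nat.finite_of_card_ne_zero (by rw [hc]; norm_num)
  obtain ⟨e⟩ := h
  obtain ⟨h1, h2⟩ := Cfsg.Agent.S1680.result
  obtain ⟨h3, h4⟩ := degs_of_index _ (k := 416) (l := 1365) (m₁ := 780) (m₂ := 1001) h1 h2 (by norm_num) (by norm_num)
    (by norm_num) hc (by norm_num) chk_suz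
  exact ⟨(HasDeg.of_irr h3).mulEquiv e, (HasDeg.of_irr h4).mulEquiv e⟩

/-! ### Fi22 -/

theorem chk_fi22 : chk 64561751654400 693 2816 429 3080 = true := by decide +kernel

theorem fi22 {K : Type u} [Group K] (h : Spor.IsoFi22 K) : HasDeg K 429 ∧ HasDeg K 3080 := by
  have hc : Nat.card Spor.Fi22 = 64561751654400 := NotCT.Orders.fi22 (K := Spor.Fi22) ⟨MulEquiv.refl _⟩
  have : Finite Spor.Fi22 := Nat.finite_of_card_ne_zero (by rw [hc]; norm_num)
  obtain ⟨e⟩ := h
  obtain ⟨h1, h2⟩ := Cfsg.Agent.S1687.result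
  obtain ⟨h3, h4⟩ := degs_of_index _ (k := 693) (l := 2816) (m₁ := 429) (m₂ := 3080) h1 h2 (by norm_num) (by norm_num)
    (by norm_num) hc (by norm_num) chk_fi22
  exact ⟨(HasDeg.of_irr h3).mulEquiv e, (HasDeg.of_irr h4).mulEquiv e⟩

/-! ### A nontrivial irreducible of degree less than the index of a proper subgroup -/

theorem exists_lt_index {G : Type*} [Group G] [Finite G] (H : Subgroup G) (hi : 1 < H.index) :
    ∃ ψ : G → ℂ, IsIrrCharacter G ψ ∧ ψ ≠ 1 ∧ ∃ d : ℕ, ψ 1 = d ∧ d < H.index := by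
  classical
  have := Fintype.ofFinite G
  have := finite_irr (G := G)
  have := Fintype.ofFinite (IrrCharacter G)
  set π : G → ℂ := fun g => (Nat.card (MulAction.fixedBy (G ⧸ H) g) : ℂ) with hπ
  obtain ⟨m, hm⟩ := exists_nat_comb (Cfsg.Agent.S0157.isCharacter_fixedBy (G := G) (G ⧸ H))
  change π = _ at hm
  have hπ1 : classInner π (1 : G → ℂ) = 1 := by
    have h1 := Cfsg.Agent.S0157.avg_fixedBy (G := G) (G ⧸ H)
    rw [Cfsg.Agent.S0157.card_orbits_of_pretransitive G (G ⧸ H)] at h1
    rw [hπ]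
    simpa [classInner] using h1
  set one : IrrCharacter G := ⟨1, isIrr_one⟩ with hone
  have hm1 : m one = 1 := by
    have h1 := classInner_sum_nsmul_irr m one
    rw [← hm] at h1
    have h2 : (one : G → ℂ) = 1 := rfl
    rw [h2, hπ1] at h1
    exact_mod_cast h1.symm
  have hd : ∀ χ : IrrCharacter G, ∃ n : ℕ, 0 < n ∧ (χ : G → ℂ) 1 = n := fun χ => isIrr_apply_one χ.2
  choose d hd0 hd using hd
  have hdeg : (H.index : ℂ) = ((∑ χ : IrrCharacter G, m χ * d χ : ℕ) : ℂ) := by
    have h1 : π 1 = (H.index : ℂ) := by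
      rw [hπ]
      simp only
      rw [MulAction.fixedBy_one_eq_univ, Nat.card_coe_set_eq, Set.ncard_univ]
      rfl
    rw [← h1, hm, Finset.sum_apply]
    push_cast
    refine Finset.sum_congr rfl fun χ _ => ?_
    rw [Pi.smul_apply, hd χ, nsmul_eq_mul]
  have hdegN : H.index = ∑ χ : IrrCharacter G, m χ * d χ := by exact_mod_cast hdeg
  have hd1 : d one = 1 := by
    have h1 := hd one
    have h2 : (one : G → ℂ) 1 = 1 := rfl
    rw [h2] at h1
    exact_mod_cast h1.symm
  rw [← Finset.add_sum_erase _ _ (Finset.mem_univ one), hm1, hd1] at hdegN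
  obtain ⟨χ, hχ, hχ0⟩ : ∃ χ ∈ Finset.univ.erase one, m χ * d χ ≠ 0 := by
    by_contra hcon
    push Not at hcon
    rw [Finset.sum_eq_zero hcon] at hdegN
    omega
  refine ⟨χ, χ.2, ?_, d χ, hd χ, ?_⟩
  · intro h
    exact (Finset.mem_erase.1 hχ).1 (Subtype.ext h)
  · have h1 := Finset.single_le_sum (f := fun χ => m χ * d χ) (fun i _ => Nat.zero_le _) hχ
    have h2 : d χ ≤ m χ * d χ := Nat.le_mul_of_pos_left _ (Nat.pos_of_ne_zero fun h0 => hχ0 (by rw [h0, zero_mul]))
    omega

/-- `Fi24'`. -/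
theorem fi24 {K : Type u} [Group K] (h : Spor.IsoFi24' K) :
    ∃ ψ : K → ℂ, IsIrrCharacter K ψ ∧ ψ ≠ 1 ∧ ∃ d : ℕ, ψ 1 = d ∧ d ≤ 306935 := by
  obtain ⟨e⟩ := h
  have hi := Cfsg.Agent.S1690.result
  have h2 := Cfsg.Agent.S1691.result
  generalize hH : (((Subgroup.closure ({Cfsg.Spor.Fi24.a, Cfsg.Spor.Fi24.b, Cfsg.Spor.Fi24.c, Cfsg.Spor.Fi24.d, Cfsg.Spor.Fi24.e, Cfsg.Spor.Fi24.f, Cfsg.Spor.Fi24.g, Cfsg.Spor.Fi24.h, Cfsg.Spor.Fi24.i, Cfsg.Spor.Fi24.j, Cfsg.Spor.Fi24.l} : Set (FreeGroup Cfsg.Spor.Fi24.Gen))).map (PresentedGroup.mk (Cfsg.Spor.coxRelators Cfsg.Spor.Fi24.edges ∪ {r | r ∈ Cfsg.Spor.Fi24.extra}))))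
    = H at hi
  have hfin : Finite Spor.Fi24' := by
    have hc : Nat.card Spor.Fi24' = 1255205709190661721292800 :=
      NotCT.Orders.fi24 (K := Spor.Fi24') ⟨MulEquiv.refl _⟩
    exact Nat.finite_of_card_ne_zero (by rw [hc]; norm_num)
  set C : Subgroup Spor.Fi24 := commutator Spor.Fi24 with hC
  have h3 : (H.subgroupOf C).index ≤ 306936 := by
    have h4 : H.relIndex C ≤ H.index := by
      rw [← Subgroup.relIndex_top_right]
      refine Subgroup.relIndex_le_of_le_right le_top ?_
      rw [Subgroup.relIndex_top_right, hi]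
      norm_num
    rw [hi] at h4
    exact h4
  have h4 : (H.subgroupOf C).index ≠ 1 := by
    intro h5
    have h6 : C ≤ H := by
      rw [Subgroup.index_eq_one, Subgroup.subgroupOf_eq_top] at h5
      exact h5
    have h7 := Subgroup.index_dvd_of_le h6
    rw [h2, hi] at h7
    norm_num at h7
  have h5 : (H.subgroupOf C).index ≠ 0 := by
    have : Finite C := hfin
    exact Subgroup.index_ne_zero_of_finite
  have : Finite C := hfin
  obtain ⟨ψ, h6, h7, d, h8, h9⟩ := exists_lt_index (H.subgroupOf C) (by omega)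
  refine ⟨ψ ∘ e, isIrr_comp e.toMonoidHom e.surjective h6, ?_, d, ?_, by omega⟩
  · intro h10
    apply h7
    funext x
    have h11 := congrFun h10 (e.symm x)
    rw [Function.comp_apply, MulEquiv.apply_symm_apply] at h11
    exact h11
  · rw [Function.comp_apply, map_one]
    exact h8

end Cfsg.Agent.H334.DS
end

-- part: H334/DS/DegsLeech
section
/-!
# Degrees of HS and McL (helper334, from helper713's results)

* `hs` : 22, 77;  `mcl` : 22, 252.
-/

set_option autoImplicit false

namespace Cfsg.Agent.H334.DS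

open Cfsg Cfsg.Agent.Characters.Core Cfsg.Agent.H665.NoPQ
open Cfsg.Agent.Blocks.Basic (irr_one_eq_charDegree)
open Cfsg.Agent.SporadicRecognition.RankThree Cfsg.Agent.SporadicRecognition.HSRank

universe u

theorem HasDeg.of_charDegree {G : Type*} [Group G] [Finite G] {m : ℕ}
    (h : ∃ χ : IrrCharacter G, charDegree (χ : G → ℂ) = m) : HasDeg G m := by
  obtain ⟨χ, hχ⟩ := h
  exact ⟨χ, χ.2, by rw [irr_one_eq_charDegree χ.2, hχ]⟩

theorem hs {S : Type u} [Group S] (h : Spor.IsoHS S) : HasDeg S 22 ∧ HasDeg S 77 := by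
  obtain ⟨e⟩ := h
  obtain ⟨hs, hc⟩ := H713.Spor.HS.facts
  have hfin : Finite ↥(K H713.Spor.HS.V H713.Spor.HS.W) := Nat.finite_of_card_ne_zero (by rw [hc]; norm_num)
  obtain ⟨μ, -, hμ⟩ := H713.Spor.HS.exists_22
  have h1 := H713.Spor.HS.degree_of_lchi hμ
  refine ⟨(HasDeg.of_charDegree ⟨μ, by omega⟩).mulEquiv (e.trans hsEquiv), ?_⟩
  exact (HasDeg.of_charDegree H713.Spor.HS.exists_77).mulEquiv (e.trans hsEquiv)

theorem mcl {S : Type u} [Group S] (h : Spor.IsoMcL S) : HasDeg S 22 ∧ HasDeg S 252 := by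
  obtain ⟨e⟩ := h
  obtain ⟨hs, hc⟩ := H713.Spor.McL.facts
  have hfin : Finite ↥(K (-Spor.leechV) Spor.leechU) := Nat.finite_of_card_ne_zero (by rw [hc]; norm_num)
  obtain ⟨μ, -, hμ⟩ := H713.Spor.McL.exists_22
  have h1 := H713.Spor.HS.degree_of_lchi hμ
  refine ⟨(HasDeg.of_charDegree ⟨μ, by omega⟩).mulEquiv (e.trans H713.Spor.McL.mclEquiv), ?_⟩
  exact (HasDeg.of_charDegree H713.Spor.McL.exists_252).mulEquiv (e.trans H713.Spor.McL.mclEquiv)

end Cfsg.Agent.H334.DS
end
end
end
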